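import Cfsg.Agent.Lib.PSUMult.Basic
import Cfsg.Agent.Lib.Classical.UnitaryStd
import Cfsg.Agent.Lib.Classical.SU2
import Cfsg.Agent.Lib.Phan.Torus
import Cfsg.Agent.Lib.Phan.Stage
import Cfsg.Agent.S0278

/-!
# Facts on the special unitary groups used for their multipliers
-/

set_option autoImplicit false
set_option linter.unusedSectionVars false
set_option linter.style.haveILetI false
set_option linter.style.show false

namespace Cfsg.Agent.PSUMult

open Matrix
open Cfsg.Agent.AutPSU (Conj h act act_mul act_one ext_act)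
open Cfsg.Agent.Phan (bv emb blk)

universe u

variable {F : Type u} [Field F] [Fintype F] {q : ℕ}

theorem perfect_of_equiv {A B : Type*} [Group A] [Group B] (e : A ≃* B) (hA : commutator A = ⊤) :
    commutator B = ⊤ := by
  have h := congrArg (Subgroup.map e.toMonoidHom) hA
  rw [commutator_def, Subgroup.map_commutator, Subgroup.map_top_of_surjective e.toMonoidHom e.surjective,
    ← commutator_def] at h
  exact h

theorem perfect_su (hF : Fintype.card F = q ^ 2) {n : ℕ} (hn : 3 ≤ n) (hq : n = 3 → 3 ≤ q) :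
    commutator ↥(Cfsg.SU n F q) = ⊤ := by
  obtain ⟨σ, -, hf, hcard⟩ := UnitaryStd.exists_setup (n := n) hF (by omega)
  rw [eq_top_iff, ← UnitaryStd.closure_eq_top hf hn (fun h => hcard.symm ▸ hq h), Subgroup.closure_le]
  rintro A ⟨v, c, hv, hA⟩
  rw [SetLike.mem_coe, commutator_eq_closure]
  exact Subgroup.subset_closure (UnitaryStd.mem_commutatorSet hf hn A hv hA)

theorem perfect_su2 (hF : Fintype.card F = q ^ 2) (hq : 4 ≤ q) :
    commutator ↥(Cfsg.SU 2 F q) = ⊤ := by
  classical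
  obtain ⟨σ, hσ, hne, hinv, hfix, -⟩ := HermStd.exists_sigma hF
  haveI := Fintype.ofFinite (Hermitian.fixed σ)
  obtain ⟨e⟩ := SU2.exists_equiv_SU2 (K := Hermitian.fixed σ) hne hinv hσ hfix
    (by rw [← Nat.card_eq_fintype_card]; exact hfix)
  exact perfect_of_equiv e.symm (Phan.commutator_sl2 (by rw [hfix]; exact hq))

theorem perfect_su' (hF : Fintype.card F = q ^ 2) {n : ℕ} (hn : 2 ≤ n) (hq : n ≤ 3 → 4 ≤ q) :
    commutator ↥(Cfsg.SU n F q) = ⊤ := by
  rcases Nat.lt_or_ge n 3 with h | h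
  · obtain rfl : n = 2 := by omega
    exact perfect_su2 hF (hq (by omega))
  · exact perfect_su hF h (fun e => by have := hq (by omega); omega)

/-- A diagonal element. -/
theorem exists_diag (C : Conj F q) {n : ℕ} (d : Fin n → F) (hd : ∀ i, d i * C.σ (d i) = 1)
    (hp : ∏ i, d i = 1) : ∃ s : Cfsg.SU n F q, ∀ v i, act s v i = d i * v i :=
  ⟨⟨_, HermSU.diag_mem_SU (σ := C.σ.toRingHom) C.apply_eq hd hp⟩,
    fun v i => Matrix.mulVec_diagonal d v i⟩

/-- A signed transposition. -/
theorem exists_swap (C : Conj F q) {n : ℕ} {i j : Fin n} (hij : i ≠ j) :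
    ∃ s : Cfsg.SU n F q, ∀ v, act s v = Function.update (Function.update v i (-v j)) j (v i) := by
  obtain ⟨P, hP, h⟩ := HermSU.exists_swap_mem_SU (n := n) (σ := C.σ.toRingHom) (q := q) C.apply_eq hij
  exact ⟨⟨P, hP⟩, h⟩

/-- An element of norm one different from one. -/
theorem exists_norm_one_ne (C : Conj F q) (hF : Fintype.card F = q ^ 2) :
    ∃ c : F, c * C.σ c = 1 ∧ c ≠ 1 := by
  obtain ⟨σ, hσ, hne, hinv, hfix, hq2⟩ := HermStd.exists_sigma hF
  have h := Hermitian.card_norm_fibre (σ := σ) hne hinv (map_one σ) one_ne_zero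
  rw [hfix] at h
  haveI : Nontrivial {a : F // a * σ a = 1} := Finite.one_lt_card_iff_nontrivial.1 (by rw [h]; omega)
  obtain ⟨c, hc⟩ := exists_ne (⟨1, by simp⟩ : {a : F // a * σ a = 1})
  exact ⟨c.1, by rw [C.apply_eq, ← hσ]; exact c.2, fun e => hc (Subtype.ext e)⟩

theorem scalar_center {n : ℕ} (s : Cfsg.SU n F q) {c : F}
    (hs : ∀ v, act s v = c • v) : s ∈ Subgroup.center ↥(Cfsg.SU n F q) :=
  Subgroup.mem_center_iff.2 fun t => ext_act fun v => by
    rw [act_mul, act_mul, hs, hs, AutPSU.act_smul]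

end Cfsg.Agent.PSUMult
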