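import Cfsg.Agent.Lib.PSUMult.Setup
import Cfsg.Agent.Lib.Classical.HomocyclicSylow
import Cfsg.Agent.Lib.CentralSection.RankOneSL2

/-!
# The primes other than the characteristic for `SU₃`

The stabiliser of a non-isotropic line, the Sylow subgroups of the cubic torus, and for the prime three
the monomial group.
-/

set_option autoImplicit false
set_option linter.unusedSectionVars false
set_option linter.style.haveILetI false
set_option linter.style.show false

namespace Cfsg.Agent.PSUMult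

open scoped commutatorElement
open Matrix
open Cfsg.Agent.AutPSU (Conj h act act_mul act_one ext_act)
open Cfsg.Agent.Phan (bv emb emb_range emb_fix)

universe u

variable {F : Type u} [Field F] [Fintype F] {q : ℕ}

theorem card_su2' (hF : Fintype.card F = q ^ 2) :
    Nat.card ↥(Cfsg.SU 2 F q) = q * (q - 1) * (q + 1) := by
  obtain ⟨σ, hσ, hne, hinv, hfix, -⟩ := HermStd.exists_sigma hF
  exact SU2.card_SU2 hne hinv hσ hfix

theorem card_su3 (hF : Fintype.card F = q ^ 2) :
    Nat.card ↥(Cfsg.SU 3 F q) = q ^ 3 * (q + 1) * ((q + 1) * (q - 1) * (q * q - q + 1)) := by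
  obtain ⟨σ, hσ, hne, hinv, hfix, hq2⟩ := HermStd.exists_sigma hF
  refine Nat.eq_of_mul_eq_mul_left (show 0 < q + 1 by omega) ?_
  rw [S0278.result hF 3 (by norm_num), Finset.prod_range_succ, Finset.prod_range_succ,
    Finset.prod_range_succ, Finset.prod_range_zero, if_pos (by decide), if_neg (by decide),
    if_pos (by decide)]
  obtain ⟨s, rfl⟩ : ∃ s, q = s + 1 := ⟨q - 1, by omega⟩
  rw [Nat.add_sub_cancel, show (s + 1) * (s + 1) - (s + 1) = (s + 1) * s by
    rw [← Nat.mul_sub_one, Nat.add_sub_cancel],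
    show (s + 1) ^ (1 + 1) - 1 = s * (s + 2) by
      rw [show (s + 1) ^ (1 + 1) = s * (s + 2) + 1 by ring, Nat.add_sub_cancel]]
  norm_num
  ring

/-- The elements of `SU₂` have their `p`-th power in the derived group. -/
theorem pow_mem_commutator (hF : Fintype.card F = q ^ 2) {p : ℕ} [Fact p.Prime] [CharP F p]
    (g : ↥(Cfsg.SU 2 F q)) : g ^ p ∈ commutator ↥(Cfsg.SU 2 F q) := by
  classical
  obtain ⟨σ, hσ, hne, hinv, hfix, -⟩ := HermStd.exists_sigma hF
  haveI := Fintype.ofFinite (Hermitian.fixed σ)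
  haveI : CharP (Hermitian.fixed σ) p :=
    (RingHom.charP_iff _ (Hermitian.fixed σ).subtype_injective p).2 inferInstance
  obtain ⟨e⟩ := SU2.exists_equiv_SU2 (K := Hermitian.fixed σ) hne hinv hσ hfix
    (by rw [← Nat.card_eq_fintype_card]; exact hfix)
  let φ : ↥(Cfsg.SU 2 F q) →* Abelianization ↥(Cfsg.SU 2 F q) := Abelianization.of
  have hle : ⊤ ≤ ((powMonoidHom p).comp (φ.comp e.symm.toMonoidHom)).ker := by
    rw [← ClassicalSL.closure_elemTransvections, Subgroup.closure_le]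
    rintro t ⟨i, j, hij, c, rfl⟩
    show φ (e.symm _) ^ p = 1
    have hk : ∀ k : ℕ, Matrix.SpecialLinearGroup.transvection hij c ^ k =
        Matrix.SpecialLinearGroup.transvection hij ((k : Hermitian.fixed σ) * c) := fun k => by
      induction k with
      | zero => simp
      | succ k ih =>
        rw [pow_succ, ih, ← Matrix.SpecialLinearGroup.transvection_add,
          Nat.cast_succ, add_mul, one_mul]
    rw [← map_pow, ← map_pow, hk, CharP.cast_eq_zero, zero_mul,
      show Matrix.SpecialLinearGroup.transvection hij (0 : Hermitian.fixed σ) = 1 by simp, map_one, map_one]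
  have h1 := hle (Subgroup.mem_top (e g))
  rw [MonoidHom.mem_ker] at h1
  rw [← Abelianization.ker_of, MonoidHom.mem_ker, map_pow]
  simpa [φ] using h1

/-- A group whose Sylow `r`-subgroups have trivial multiplier. -/
theorem kills_top {G : Type u} [Group G] [Finite G] {r : ℕ} [Fact r.Prime] (P : Sylow r G)
    (h : Cfsg.HasCyclicSchurMultiplier (P : Subgroup G) 1) : Kills r (⊤ : Subgroup G) := by
  intro X _ ξ E z hz e
  have hc : z ∈ commutator X := by
    rw [commutator_def]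
    exact Subgroup.commutator_mono le_top le_top hz
  exact E.eq_one_of_pow Fact.out e P.not_dvd_index (Schur.pow_index_eq_one ξ E.surj _
    (Schur.eq_one_of_trivial _ h ξ E.surj E.central) (E.central e) e hc)

theorem kills_su2 {p r : ℕ} [Fact p.Prime] [CharP F p] [Fact r.Prime] (hrp : r ≠ p) :
    Kills r (⊤ : Subgroup ↥(Cfsg.SU 2 F q)) := by
  obtain ⟨P⟩ : Nonempty (Sylow r ↥(Cfsg.SU 2 F q)) := inferInstance
  exact kills_top P (CentralSection.SL2Img.mult_sl2 Fact.out hrp P.isPGroup'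
    ((Cfsg.SU 2 F q).subtype.comp (P : Subgroup ↥(Cfsg.SU 2 F q)).subtype)
    (Subtype.val_injective.comp Subtype.val_injective))

/-- The prime divides neither `q` nor `q² - q + 1`. -/
theorem exists_kills_line (hF : Fintype.card F = q ^ 2) {p r : ℕ} [Fact p.Prime] [CharP F p]
    [Fact r.Prime] (hrp : r ≠ p) (hrq : ¬ r ∣ q) (hr : ¬ r ∣ q * q - q + 1) :
    ∃ U : Subgroup ↥(Cfsg.SU 3 F q), ¬ r ∣ U.index ∧ Kills r U := by
  classical
  obtain ⟨C⟩ := AutPSU.exists_conj hF
  obtain ⟨σ, hσ, hne, hinv, hfix, hq2⟩ := HermStd.exists_sigma hF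
  have hrpr : r.Prime := Fact.out
  have ho : 0 + 2 ≤ 3 := by norm_num
  set L : Subgroup ↥(Cfsg.SU 3 F q) := (emb (F := F) (q := q) 0 ho).range with hL
  have hLmem : ∀ s, s ∈ L ↔ act s (bv 2) = bv 2 := fun s => by
    constructor
    · rintro ⟨t, rfl⟩; exact emb_fix 0 ho t (Or.inr (by simp))
    · intro e
      obtain ⟨t, ht⟩ := emb_range (F := F) (q := q) 0 ho C s fun i hi => by
        obtain rfl : i = 2 := Fin.ext (by simp; omega)
        exact e
      exact ⟨t, ht⟩
  obtain ⟨u, hu⟩ := IsCyclic.exists_generator (α := HermSU.normOne σ)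
  have hord : orderOf u = q + 1 := by
    rw [orderOf_eq_card_of_forall_mem_zpowers hu, HermSU.card_normOne hne hinv hfix]
  have hN : ∀ x : HermSU.normOne σ, ((x : Fˣ) : F) * C.σ ((x : Fˣ) : F) = 1 := fun x => by
    rw [C.apply_eq, ← hσ]; exact x.2
  obtain ⟨γ, hγ⟩ := exists_diag C (n := 3) ![(((u⁻¹ : HermSU.normOne σ) : Fˣ) : F), 1, ((u : Fˣ) : F)]
    (fun i => by fin_cases i; exacts [hN _, by simp, hN _])
    (by rw [Fin.prod_univ_three]; simp)
  have hγ2 : ∀ k : ℕ, act (γ ^ k) (bv 2) = (((u : Fˣ) : F)) ^ k • (bv 2 : Fin 3 → F) := by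
    intro k
    induction k with
    | zero => rw [pow_zero, act_one, pow_zero, one_smul]
    | succ k ih =>
      rw [pow_succ', act_mul, ih, AutPSU.act_smul, pow_succ, mul_smul]
      congr 1
      funext i
      rw [hγ]
      fin_cases i <;> simp [bv]
  have hconj : ∀ s ∈ L, γ * s * γ⁻¹ ∈ L := fun s hs => by
    rw [hLmem] at hs ⊢
    have h1 := hγ2 1
    rw [pow_one, pow_one] at h1
    have h2 : act γ⁻¹ (bv 2) = ((u : Fˣ) : F)⁻¹ • (bv 2 : Fin 3 → F) := by
      refine AutPSU.act_inj γ ?_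
      rw [AutPSU.act_act_inv, AutPSU.act_smul, h1, smul_smul, inv_mul_cancel₀ (Units.ne_zero _), one_smul]
    rw [act_mul, act_mul, h2, AutPSU.act_smul, hs, AutPSU.act_smul, h1, smul_smul,
      inv_mul_cancel₀ (Units.ne_zero _), one_smul]
  have hnorm : Subgroup.zpowers γ ≤ Subgroup.normalizer (L : Set ↥(Cfsg.SU 3 F q)) := by
    rw [Subgroup.zpowers_le]
    refine Subgroup.mem_normalizer_iff.2 fun s => ⟨hconj s, fun h => ?_⟩
    have hinv' : ∀ k : ℕ, ∀ s ∈ L, γ ^ k * s * (γ ^ k)⁻¹ ∈ L := by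
      intro k
      induction k with
      | zero => simp
      | succ k ih =>
        intro s hs
        rw [show γ ^ (k + 1) * s * (γ ^ (k + 1))⁻¹ = γ * (γ ^ k * s * (γ ^ k)⁻¹) * γ⁻¹ by
          rw [pow_succ']; group]
        exact hconj _ (ih s hs)
    have h' := hinv' (orderOf γ - 1) _ h
    have e : γ ^ (orderOf γ - 1) = γ⁻¹ := eq_inv_of_mul_eq_one_left (by
      rw [← pow_succ, Nat.sub_add_cancel (orderOf_pos γ), pow_orderOf_eq_one])
    rw [e] at h'
    simpa [mul_assoc] using h'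
  set H := L ⊔ Subgroup.zpowers γ with hH
  have hγord : γ ^ (q + 1) = 1 := ext_act fun v => funext fun i => by
    rw [act_one]
    have hk : ∀ k : ℕ, act (γ ^ k) v i = (![(((u⁻¹ : HermSU.normOne σ) : Fˣ) : F), 1, ((u : Fˣ) : F)] i) ^ k * v i := by
      intro k
      induction k with
      | zero => simp [act_one]
      | succ k ih => rw [pow_succ', act_mul, hγ, ih, pow_succ]; ring
    rw [hk]
    have hu1 : ((u : Fˣ) : F) ^ (q + 1) = 1 := by
      rw [← Units.val_pow_eq_pow_val, ← Subgroup.coe_pow, ← hord, pow_orderOf_eq_one]; simp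
    fin_cases i <;> simp [hu1, inv_pow]
  have hdec : ∀ x ∈ H, ∃ l ∈ L, ∃ k : ℕ, k < q + 1 ∧ x = l * γ ^ k := by
    intro x hx
    rw [hH, ← SetLike.mem_coe, Subgroup.coe_mul_of_right_le_normalizer_left _ _ hnorm] at hx
    obtain ⟨l, hl, y, hy, rfl⟩ := hx
    obtain ⟨k, rfl⟩ := (mem_powers_iff_mem_zpowers.2 hy : y ∈ Submonoid.powers γ)
    exact ⟨l, hl, k % (q + 1), Nat.mod_lt _ (by omega), by
      show l * γ ^ k = _
      rw [pow_eq_pow_mod k hγord]⟩
  have hcard : Nat.card H = Nat.card L * (q + 1) := by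
    rw [show q + 1 = Nat.card (Fin (q + 1)) by simp, ← Nat.card_prod]
    symm
    refine Nat.card_congr (Equiv.ofBijective (fun a => ⟨a.1.1 * γ ^ (a.2 : ℕ),
      mul_mem (Subgroup.mem_sup_left a.1.2) (Subgroup.mem_sup_right (pow_mem (Subgroup.mem_zpowers γ) _))⟩) ⟨?_, ?_⟩)
    · rintro ⟨l, k⟩ ⟨l', k'⟩ e
      have e' : (l : ↥(Cfsg.SU 3 F q)) * γ ^ (k : ℕ) = l' * γ ^ (k' : ℕ) := congrArg Subtype.val e
      have e2 := congrArg (fun s => act s (bv 2 : Fin 3 → F) 2) e'
      simp only [act_mul, hγ2, AutPSU.act_smul, (hLmem _).1 l.2, (hLmem _).1 l'.2] at e2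
      simp only [Pi.smul_apply, smul_eq_mul, bv, Pi.single_eq_same, mul_one] at e2
      have hk : (k : ℕ) = k' := by
        have h3 : u ^ (k : ℕ) = u ^ (k' : ℕ) := Subtype.ext (Units.ext (by simpa using e2))
        exact pow_injOn_Iio_orderOf (by simp [hord]; omega) (by simp [hord]; omega) h3
      obtain rfl : k = k' := Fin.ext hk
      exact Prod.ext (Subtype.ext (mul_right_cancel e')) rfl
    · rintro ⟨x, hx⟩
      obtain ⟨l, hl, k, hk, rfl⟩ := hdec x hx
      exact ⟨(⟨l, hl⟩, ⟨k, hk⟩), rfl⟩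
  refine ⟨H, ?_, ?_⟩
  · have hLc : Nat.card L = q * (q - 1) * (q + 1) := by
      rw [← card_su2' hF]
      exact (Nat.card_congr (MonoidHom.ofInjective (Phan.emb_injective (F := F) (q := q) 0 ho)).toEquiv).symm
    have hi := H.card_mul_index
    rw [hcard, hLc, card_su3 hF] at hi
    have hpos : 0 < q * (q - 1) * (q + 1) * (q + 1) := by
      have : 0 < q - 1 := by omega
      positivity
    rw [show H.index = q * q * (q * q - q + 1) from Nat.eq_of_mul_eq_mul_left hpos (by rw [hi]; ring),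
      hrpr.dvd_mul, hrpr.dvd_mul]
    tauto
  · refine kills_ext hrpr (L := L) (e := p) ?_ (c := γ) ?_ ?_ ?_ ?_
    · exact sup_le Subgroup.le_normalizer hnorm
    · intro x hx
      obtain ⟨l, hl, k, -, rfl⟩ := hdec x hx
      exact ⟨l, hl, k, by rw [zpow_natCast]⟩
    · exact fun h => hrp ((Nat.prime_dvd_prime_iff_eq hrpr Fact.out).1 h)
    · rintro _ ⟨t, rfl⟩
      rw [← map_pow, hL, MonoidHom.range_eq_map, ← Subgroup.map_commutator, ← commutator_def]
      exact Subgroup.mem_map_of_mem _ (pow_mem_commutator hF t)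
    · rw [hL, MonoidHom.range_eq_map]
      exact (kills_su2 hrp).map _ (Phan.emb_injective 0 ho)

/-- The prime divides `q² - q + 1` and is not three. -/
theorem exists_kills_singer (hF : Fintype.card F = q ^ 2) {r : ℕ} [Fact r.Prime] (h5 : 5 ≤ r)
    (hrq : ¬ r ∣ q) (hr : r ∣ q * q - q + 1) :
    ∃ U : Subgroup ↥(Cfsg.SU 3 F q), ¬ r ∣ U.index ∧ Kills r U := by
  classical
  have hrpr : r.Prime := Fact.out
  have hq2 : 2 ≤ q := by
    obtain ⟨σ, -, -, -, -, h⟩ := HermStd.exists_sigma hF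
    exact h
  have hz : ((q : ZMod r)) * q - q + 1 = 0 := by
    have h := (ZMod.natCast_eq_zero_iff _ r).2 hr
    rw [Nat.cast_add, Nat.cast_sub (Nat.le_mul_self q), Nat.cast_mul, Nat.cast_one] at h
    exact h
  have hd : orderOf ((q ^ 2 : ℕ) : ZMod r) = 3 := by
    haveI := Fact.mk Nat.prime_three
    refine orderOf_eq_prime (by push_cast; linear_combination ((q : ZMod r) ^ 4 + (q : ZMod r) ^ 3 - (q : ZMod r) - 1) * hz) ?_
    intro e
    push_cast at e
    have h1 : (q : ZMod r) = 2 := by linear_combination e - hz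
    rw [h1] at e
    have h3 : ((3 : ℕ) : ZMod r) = 0 := by push_cast; linear_combination e
    have := Nat.le_of_dvd (by norm_num) ((ZMod.natCast_eq_zero_iff _ r).1 h3)
    omega
  obtain ⟨P⟩ : Nonempty (Sylow r ↥(Cfsg.SU 3 F q)) := inferInstance
  refine ⟨P, P.not_dvd_index, kills_of_trivial r _ ?_⟩
  obtain ⟨S, hS⟩ := (P.isPGroup'.map (Cfsg.SU 3 F q).subtype).exists_le_sylow
  obtain ⟨e⟩ := HomocyclicSylow.sl_sylow (F := F) (r := r) hF 3 (by omega)
    (fun h => hrq (hrpr.dvd_of_dvd_pow h)) S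
  rw [hd] at e
  haveI : IsCyclic (S : Subgroup (Matrix.SpecialLinearGroup (Fin 3) F)) := by
    have hf : ((Finset.Icc 2 3).filter (fun i => 3 ∣ i)).card = 1 := by decide
    haveI : Unique (Fin ((Finset.Icc 2 3).filter (fun i => 3 ∣ i)).card) := by rw [hf]; infer_instance
    exact isCyclic_of_surjective _ ((MulEquiv.funUnique _ _).symm.trans e.symm).surjective
  haveI : IsCyclic (P : Subgroup ↥(Cfsg.SU 3 F q)) := isCyclic_of_injective
    ((Subgroup.inclusion hS).comp ((Cfsg.SU 3 F q).subtype.subgroupMap (P : Subgroup ↥(Cfsg.SU 3 F q))))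
    (fun a b e => Subtype.ext (Subtype.val_injective
      (congrArg Subtype.val ((Subgroup.inclusion_injective hS) e) :)))
  exact S3979.result

/-- The prime three, dividing `q + 1`. -/
theorem exists_kills_three (hF : Fintype.card F = q ^ 2) (hq : 3 ≤ q) (h3 : 3 ∣ q + 1) :
    ∃ U : Subgroup ↥(Cfsg.SU 3 F q), ¬ 3 ∣ U.index ∧ Kills 3 U := by
  classical
  obtain ⟨C⟩ := AutPSU.exists_conj hF
  obtain ⟨σ, hσ, hne, hinv, hfix, hq2⟩ := HermStd.exists_sigma hF
  obtain ⟨u, hu⟩ := IsCyclic.exists_generator (α := HermSU.normOne σ)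
  have hN : ∀ x : HermSU.normOne σ, ((x : Fˣ) : F) * C.σ ((x : Fˣ) : F) = 1 := fun x => by
    rw [C.apply_eq, ← hσ]; exact x.2
  let dv : (HermSU.normOne σ × HermSU.normOne σ) → Fin 3 → F := fun a =>
    ![((a.1 : Fˣ) : F), ((a.2 : Fˣ) : F), (((a.1 * a.2)⁻¹ : HermSU.normOne σ) : Fˣ)]
  have hex : ∀ a : (HermSU.normOne σ × HermSU.normOne σ), ∃ s : ↥(Cfsg.SU 3 F q), ∀ v i, act s v i = dv a i * v i := fun a =>
    exists_diag C (dv a) (fun i => by fin_cases i <;> exact hN _) (by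
      rw [Fin.prod_univ_three]; simp [dv]; field_simp)
  choose ds hds using hex
  have hdv : ∀ a b i, dv (a * b) i = dv a i * dv b i := fun a b i => by
    fin_cases i <;> simp [dv, mul_comm, mul_left_comm] <;> ring
  let φ : (HermSU.normOne σ × HermSU.normOne σ) →* ↥(Cfsg.SU 3 F q) := MonoidHom.mk' ds fun a b => ext_act fun v => funext fun i => by
    rw [act_mul, hds, hds, hds, hdv]; ring
  have hφ : Function.Injective φ := fun a b e => by
    have h := fun i => congrArg (fun s => act s (fun _ => (1 : F)) i) e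
    simp only [φ, MonoidHom.mk'_apply, hds, mul_one] at h
    exact Prod.ext (Subtype.ext (Units.ext (h 0))) (Subtype.ext (Units.ext (h 1)))
  obtain ⟨s01, hs01⟩ := exists_swap C (n := 3) (show (0 : Fin 3) ≠ 1 by decide)
  obtain ⟨s12, hs12⟩ := exists_swap C (n := 3) (show (1 : Fin 3) ≠ 2 by decide)
  obtain ⟨s02, hs02⟩ := exists_swap C (n := 3) (show (0 : Fin 3) ≠ 2 by decide)
  set c := s01 * s12 with hc_def
  have hcact : ∀ v : Fin 3 → F, act c v = ![v 2, v 0, v 1] := fun v => by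
    rw [hc_def, act_mul, hs01, hs12]
    funext i; fin_cases i <;> simp
  let rot : (HermSU.normOne σ × HermSU.normOne σ) → (HermSU.normOne σ × HermSU.normOne σ) := fun a => ((a.1 * a.2)⁻¹, a.1)
  have hrot : ∀ a, c * φ a = φ (rot a) * c := fun a => ext_act fun v => funext fun i => by
    rw [act_mul c, act_mul (φ (rot a))]
    show act c (act (ds a) v) i = act (ds (rot a)) (act c v) i
    rw [hds, hcact, hcact]
    fin_cases i <;> simp [hds, dv, rot]
  have hc3 : c ^ 3 = 1 := ext_act fun v => by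
    rw [pow_succ, pow_succ, pow_one, act_mul, act_mul, act_one, hcact, hcact, hcact]
    funext i; fin_cases i <;> simp
  set A := φ.range with hA
  have hnorm : Subgroup.zpowers c ≤ Subgroup.normalizer (A : Set ↥(Cfsg.SU 3 F q)) := by
    rw [Subgroup.zpowers_le]
    have h1 : ∀ s ∈ A, c * s * c⁻¹ ∈ A := by
      rintro _ ⟨a, rfl⟩
      exact ⟨rot a, by rw [hrot, mul_inv_cancel_right]⟩
    refine Subgroup.mem_normalizer_iff.2 fun s => ⟨h1 s, fun h => ?_⟩
    have h2 := h1 _ (h1 _ h)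
    have e : c * (c * (c * s * c⁻¹) * c⁻¹) * c⁻¹ = c ^ 3 * s * (c ^ 3)⁻¹ := by
      rw [pow_succ, pow_succ, pow_one]; group
    rwa [e, hc3, one_mul, inv_one, mul_one] at h2
  set P := A ⊔ Subgroup.zpowers c with hP
  have hdec : ∀ x ∈ P, ∃ a ∈ A, ∃ k : ℕ, k < 3 ∧ x = a * c ^ k := by
    intro x hx
    rw [hP, ← SetLike.mem_coe, Subgroup.coe_mul_of_right_le_normalizer_left _ _ hnorm] at hx
    obtain ⟨l, hl, y, hy, rfl⟩ := hx
    obtain ⟨k, rfl⟩ := (mem_powers_iff_mem_zpowers.2 hy : y ∈ Submonoid.powers c)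
    exact ⟨l, hl, k % 3, Nat.mod_lt _ (by norm_num), by
      show l * c ^ k = _
      rw [pow_eq_pow_mod k hc3]⟩
  have hcard : Nat.card P = (q + 1) * (q + 1) * 3 := by
    rw [show (q + 1) * (q + 1) * 3 = Nat.card ((HermSU.normOne σ × HermSU.normOne σ) × Fin 3) by
      rw [Nat.card_prod, Nat.card_prod, HermSU.card_normOne hne hinv hfix, Nat.card_fin]]
    symm
    refine Nat.card_congr (Equiv.ofBijective (fun a => ⟨φ a.1 * c ^ (a.2 : ℕ),
      mul_mem (Subgroup.mem_sup_left ⟨_, rfl⟩) (Subgroup.mem_sup_right (pow_mem (Subgroup.mem_zpowers c) _))⟩) ⟨?_, ?_⟩)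
    · rintro ⟨a, k⟩ ⟨a', k'⟩ e
      have e' : φ a * c ^ (k : ℕ) = φ a' * c ^ (k' : ℕ) := congrArg Subtype.val e
      have hk : k = k' := by
        have e2 := fun i => congrArg (fun s => act s (bv 0 : Fin 3 → F) i) e'
        simp only [φ, MonoidHom.mk'_apply, act_mul, hds] at e2
        have hne0 : ∀ b i, dv b i ≠ 0 := fun b i => by fin_cases i <;> exact Units.ne_zero _
        have h0 := e2 0
        have h1 := e2 1
        have h2 := e2 2
        fin_cases k <;> fin_cases k' <;>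
          first
          | rfl
          | (exfalso; simp [pow_succ, act_mul, act_one, hcact, bv, hne0, eq_comm] at h0 h1 h2)
      subst hk
      exact Prod.ext (hφ (mul_right_cancel e')) rfl
    · rintro ⟨x, hx⟩
      obtain ⟨_, ⟨a, rfl⟩, k, hk, rfl⟩ := hdec x hx
      exact ⟨(a, ⟨k, hk⟩), rfl⟩
  refine ⟨P, ?_, ?_⟩
  · have hi := P.card_mul_index
    rw [hcard, card_su3 hF] at hi
    obtain ⟨m, hm⟩ : ∃ m, q = 3 * m + 2 := ⟨q / 3, by omega⟩
    have e : q * q - q + 1 = 3 * (3 * m * m + 3 * m + 1) := by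
      rw [hm, show (3 * m + 2) * (3 * m + 2) = 3 * (3 * m * m + 3 * m + 1) - 1 + (3 * m + 2) by
        have : 1 ≤ 3 * (3 * m * m + 3 * m + 1) := by omega
        zify [this]; ring, Nat.add_sub_cancel]
      omega
    rw [e, show q ^ 3 * (q + 1) * ((q + 1) * (q - 1) * (3 * (3 * m * m + 3 * m + 1))) =
      (q + 1) * (q + 1) * 3 * (q ^ 3 * (q - 1) * (3 * m * m + 3 * m + 1)) by ring] at hi
    rw [Nat.eq_of_mul_eq_mul_left (by positivity) hi, Nat.prime_three.dvd_mul, Nat.prime_three.dvd_mul]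
    rintro ((h | h) | h)
    · have := Nat.prime_three.dvd_of_dvd_pow h; omega
    · omega
    · have h9 : 3 * m * m + 3 * m = 3 * (m * m + m) := by ring
      omega
  intro X _ ξ E z hz ez
  obtain ⟨γ, hγ⟩ := E.surj c
  set A0 := A.comap ξ with hA0
  have h32 : ¬ (3 : ℕ) ∣ 2 := by decide
  -- the preimage of the diagonal group is commutative
  have hab : ∀ x ∈ A0, ∀ y ∈ A0, x * y = y * x := by
    obtain ⟨a, ha⟩ := E.surj (φ (u, u⁻¹))
    obtain ⟨b, hb⟩ := E.surj (φ (1, u))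
    obtain ⟨w, hw⟩ := E.surj s02
    have habc : ⁅a, b⁆ = 1 := by
      have hk : ξ ⁅a, b⁆ = 1 := by
        rw [map_commutatorElement, ha, hb, commutatorElement_eq_one_iff_mul_comm, ← map_mul, ← map_mul, mul_comm]
      have hsw : ∀ a' : (HermSU.normOne σ × HermSU.normOne σ), s02 * φ a' = φ ((a'.1 * a'.2)⁻¹, a'.2) * s02 := fun a' =>
        ext_act fun v => funext fun i => by
          rw [act_mul, act_mul]
          show act s02 (act (ds a') v) i = act (ds _) (act s02 v) i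
          rw [hs02, hds, hs02]
          fin_cases i <;> simp [hds, dv] <;> (left; field_simp)
      have h1 := conj_comm E.central (a := a) (b := b) (g := w) (a' := b⁻¹) (b' := a⁻¹)
        (by rw [map_inv, hb, hw, ha, hsw, mul_inv_cancel_right, ← map_inv]; congr 1; ext <;> simp)
        (by rw [map_inv, ha, hw, hb, hsw, mul_inv_cancel_right, ← map_inv]; congr 1; ext <;> simp)
      have cz := central_comm E.central hk
      rw [← cz, mul_inv_cancel_right] at h1
      have h2 : ⁅b⁻¹, a⁻¹⁆ = ⁅a, b⁆⁻¹ := by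
        rw [show ⁅b⁻¹, a⁻¹⁆ = (b * a)⁻¹ * ⁅a, b⁆⁻¹ * (b * a) by simp only [commutatorElement_def]; group,
          mul_assoc, central_comm E.central (show ξ ⁅a, b⁆⁻¹ = 1 by rw [map_inv, hk, inv_one]) (b * a),
          ← mul_assoc, inv_mul_cancel, one_mul]
      refine E.eq_one_of_pow Nat.prime_three hk h32 ?_
      rw [pow_two]
      nth_rw 1 [h1]
      rw [h2, inv_mul_cancel]
    let S := Subgroup.closure ({a, b} ∪ {k | ξ k = 1})
    have hSA : A0 ≤ S := by
      intro x hx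
      obtain ⟨⟨x1, x2⟩, e⟩ : ξ x ∈ φ.range := hx
      obtain ⟨i, hi⟩ := Subgroup.mem_zpowers_iff.1 (hu x1)
      obtain ⟨j, hj⟩ := Subgroup.mem_zpowers_iff.1 (hu (x2 * x1))
      have h1 : ξ (a ^ i * b ^ j) = ξ x := by
        rw [map_mul, map_zpow, map_zpow, ha, hb, ← e, ← map_zpow, ← map_zpow, ← map_mul]
        congr 1
        ext
        · simp [← hi]
        · show (((u⁻¹) ^ i * u ^ j : HermSU.normOne σ) : Fˣ).1 = ((x2 : Fˣ) : F)
          rw [_root_.inv_zpow, hi, hj, mul_comm x2, inv_mul_cancel_left]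
      rw [show x = a ^ i * b ^ j * ((a ^ i * b ^ j)⁻¹ * x) by group]
      have hmem : ∀ y, y ∈ ({a, b} ∪ {k | ξ k = 1} : Set X) → y ∈ S :=
        fun y hy => Subgroup.subset_closure hy
      exact mul_mem (mul_mem (zpow_mem (hmem a (Or.inl (Or.inl rfl))) i)
        (zpow_mem (hmem b (Or.inl (Or.inr rfl))) j))
        (hmem _ (Or.inr (show ξ ((a ^ i * b ^ j)⁻¹ * x) = 1 from by
          rw [map_mul, map_inv, h1, inv_mul_cancel])))
    have hS : S ≤ Subgroup.centralizer (S : Set X) := by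
      refine (Subgroup.closure_le _).2 fun x hx => Subgroup.mem_centralizer_iff.2 fun y hy => ?_
      induction hy using Subgroup.closure_induction with
      | mem y hy =>
        rcases hx with hx | hx
        · rcases hy with hy | hy
          · have := commutatorElement_eq_one_iff_mul_comm.1 habc
            rcases hx with rfl | rfl <;> rcases hy with rfl | rfl <;> first | rfl | exact this | exact this.symm
          · exact central_comm E.central hy x
        · exact (central_comm E.central hx y).symm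
      | one => simp
      | mul y y' _ _ e1 e2 => rw [mul_assoc, e2, ← mul_assoc, e1, mul_assoc]
      | inv y _ e => rw [inv_mul_eq_iff_eq_mul, ← mul_assoc, e, mul_inv_cancel_right]
    exact fun x hx y hy => Subgroup.mem_centralizer_iff.1 (hS (hSA hy)) x (hSA hx)
  have hγA : ∀ x ∈ A0, γ * x * γ⁻¹ ∈ A0 := fun x hx => by
    obtain ⟨a, e⟩ : ξ x ∈ φ.range := hx
    exact ⟨rot a, by rw [map_mul, map_mul, map_inv, hγ, ← e, hrot, mul_inv_cancel_right]⟩
  have hcm : ∀ x ∈ A0, ⁅γ, x⁆ ∈ A0 := fun x hx => by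
    rw [commutatorElement_def]; exact mul_mem (hγA x hx) (inv_mem hx)
  let D : Subgroup X :=
    { carrier := {d | ∃ x ∈ A0, d = ⁅γ, x⁆}
      one_mem' := ⟨1, one_mem _, by simp⟩
      mul_mem' := by
        rintro _ _ ⟨x, hx, rfl⟩ ⟨y, hy, rfl⟩
        refine ⟨x * y, mul_mem hx hy, ?_⟩
        rw [show ⁅γ, x * y⁆ = ⁅γ, x⁆ * (x * ⁅γ, y⁆ * x⁻¹) by simp only [commutatorElement_def]; group,
          hab x hx _ (hcm y hy), mul_inv_cancel_right]
      inv_mem' := by
        rintro _ ⟨x, hx, rfl⟩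
        refine ⟨x⁻¹, inv_mem hx, ?_⟩
        rw [show ⁅γ, x⁻¹⁆ = x⁻¹ * ⁅γ, x⁆⁻¹ * x by simp only [commutatorElement_def]; group,
          hab _ (inv_mem hx) _ (inv_mem (hcm x hx)), inv_mul_cancel_right] }
  have hDpow : ∀ (k : ℕ), ∀ y ∈ A0, ⁅γ ^ k, y⁆ ∈ D := by
    intro k
    induction k with
    | zero => intro y _; simp
    | succ k ih =>
      intro y hy
      obtain ⟨x, hx, e⟩ := ih y hy
      rw [show ⁅γ ^ (k + 1), y⁆ = (γ * ⁅γ ^ k, y⁆ * γ⁻¹ * ⁅γ ^ k, y⁆⁻¹) * ⁅γ ^ k, y⁆ * ⁅γ, y⁆ by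
        simp only [commutatorElement_def, pow_succ']; group]
      refine mul_mem (mul_mem ⟨_, ?_, (commutatorElement_def γ ⁅γ ^ k, y⁆).symm⟩ ⟨x, hx, e⟩) ⟨y, hy, rfl⟩
      rw [e]; exact hcm x hx
  have hle : ⁅P.comap ξ, P.comap ξ⁆ ≤ D := by
    rw [Subgroup.commutator_le]
    intro x hx y hy
    obtain ⟨a, ha, i, -, ea⟩ := hdec (ξ x) hx
    obtain ⟨b, hb, j, -, eb⟩ := hdec (ξ y) hy
    obtain ⟨a', rfl⟩ := E.surj a
    obtain ⟨b', rfl⟩ := E.surj b
    rw [comm_congr E.central (a := x) (a' := a' * γ ^ i) (b := y) (b' := b' * γ ^ j)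
      (by rw [map_mul, map_pow, hγ]; exact ea) (by rw [map_mul, map_pow, hγ]; exact eb)]
    have ha0 : a' ∈ A0 := ha
    have hb0 : b' ∈ A0 := hb
    have hg : ∀ k : ℕ, ∀ w ∈ A0, γ ^ k * w * (γ ^ k)⁻¹ ∈ A0 := fun k w hw => by
      obtain ⟨x', hx', e'⟩ := hDpow k w hw
      rw [show γ ^ k * w * (γ ^ k)⁻¹ = ⁅γ ^ k, w⁆ * w by simp only [commutatorElement_def]; group, e']
      exact mul_mem (hcm x' hx') hw
    set Bi := γ ^ i * b' * (γ ^ i)⁻¹ with hBi
    set Aj := γ ^ j * a' * (γ ^ j)⁻¹ with hAj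
    have key : ⁅a' * γ ^ i, b' * γ ^ j⁆ = a' * Bi * Aj⁻¹ * b'⁻¹ := by
      simp only [hBi, hAj, commutatorElement_def]; group
    have hBi0 : Bi ∈ A0 := hg i b' hb0
    have hAj0 : Aj ∈ A0 := hg j a' ha0
    have e2 : a' * Bi * Aj⁻¹ * b'⁻¹ = ⁅γ ^ i, b'⁆ * ⁅γ ^ j, a'⁆⁻¹ := calc
      a' * Bi * Aj⁻¹ * b'⁻¹ = Bi * ((a' * Aj⁻¹) * b'⁻¹) := by rw [hab a' ha0 Bi hBi0]; group
      _ = Bi * (b'⁻¹ * (a' * Aj⁻¹)) := by rw [hab _ (mul_mem ha0 (inv_mem hAj0)) _ (inv_mem hb0)]
      _ = _ := by simp only [hBi, hAj, commutatorElement_def]; group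
    rw [key, e2]
    exact mul_mem (hDpow i b' hb0) (inv_mem (hDpow j a' ha0))
  obtain ⟨x, hx, rfl⟩ := hle hz
  obtain ⟨⟨x1, x2⟩, e⟩ : ξ x ∈ φ.range := hx
  rw [map_commutatorElement, hγ, ← e, commutatorElement_eq_one_iff_mul_comm, hrot] at ez
  have hfix : rot (x1, x2) = (x1, x2) := hφ (mul_right_cancel ez)
  obtain ⟨e1, e2⟩ := Prod.ext_iff.1 hfix
  simp only [rot] at e1 e2
  have hz' : ξ x ∈ Subgroup.center ↥(Cfsg.SU 3 F q) := by
    rw [← e]
    refine scalar_center (φ (x1, x2)) (c := ((x1 : Fˣ) : F)) fun v => funext fun i => ?_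
    show act (ds (x1, x2)) v i = _
    rw [hds, Pi.smul_apply, smul_eq_mul]
    simp only [dv]
    rw [e1, ← e2]
    fin_cases i <;> rfl
  refine comm_kill E Nat.prime_three (H := ⊤) (fun g _ => Subgroup.mem_center_iff.1 hz' g) trivial
    (e := 1) (by decide) ?_
  rw [← commutator_def, perfect_su hF le_rfl (fun _ => hq)]
  trivial

end Cfsg.Agent.PSUMult
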