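import Cfsg.Agent.Lib.PSUMult.RadicalKill
import Cfsg.Agent.Lib.PSUMult.ThreeNotP
import Mathlib.FieldTheory.Finite.Basic

/-!
# The characteristic prime

A Sylow subgroup of `SU₃`, and of `SU₅(2)`, `SU₅(3)`, `SU₇(2)` built from the radical and a Sylow
subgroup of the middle group, kills the characteristic part of the multiplier.
-/

set_option autoImplicit false
set_option linter.unusedSectionVars false
set_option linter.unusedSimpArgs false
set_option linter.style.haveILetI false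
set_option linter.style.show false

namespace Cfsg.Agent.PSUMult

open scoped commutatorElement
open Matrix
open Cfsg.Agent.AutPSU (Conj h act act_mul act_one ext_act)
open Cfsg.Agent.Phan (bv)

universe u

/-- Two generators with the same square, which is their commutator. -/
theorem kills_two_gen {G : Type u} [Group G] {r : ℕ} {U : Subgroup G} {a b : G}
    (hU : U ≤ Subgroup.closure {a, b}) (hab : a ^ 2 = b ^ 2) (hc : ⁅a, b⁆ = a ^ 2) (hne : a ^ 2 ≠ 1) :
    Kills r U := by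
  intro X _ ξ E z hz ez
  obtain ⟨A, hA⟩ := E.surj a
  obtain ⟨B, hB⟩ := E.surj b
  set k := ⁅A, B⁆ with hk
  have hξk : ξ k = a ^ 2 := by rw [hk, map_commutatorElement, hA, hB, hc]
  have hcomm : ∀ w, ξ w = a ∨ ξ w = b ∨ ξ w = 1 → k * w = w * k := by
    intro w hw
    have hkey : ∀ W : X, ξ W ^ 2 = a ^ 2 → k * W = W * k := fun W e => by
      have h1 : ξ ((W ^ 2)⁻¹ * k) = 1 := by rw [map_mul, map_inv, map_pow, e, hξk, inv_mul_cancel]
      have c1 := central_comm E.central h1 W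
      calc k * W = W ^ 2 * ((W ^ 2)⁻¹ * k * W) := by group
        _ = W ^ 2 * (W * ((W ^ 2)⁻¹ * k)) := by rw [c1]
        _ = W * k := by group
    rcases hw with e | e | e
    · exact hkey w (by rw [e])
    · exact hkey w (by rw [e, hab])
    · exact (central_comm E.central e k).symm
  set V := Subgroup.closure {w | ξ w = a ∨ ξ w = b ∨ ξ w = 1} with hV
  have hUV : U.comap ξ ≤ V := by
    have h1 : Subgroup.closure {a, b} ≤ V.map ξ := by
      rw [Subgroup.closure_le]
      rintro g (rfl | rfl)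
      · exact ⟨A, Subgroup.subset_closure (Or.inl hA), hA⟩
      · exact ⟨B, Subgroup.subset_closure (Or.inr (Or.inl hB)), hB⟩
    intro x hx
    obtain ⟨v, hv, e⟩ := h1 (hU hx)
    rw [show x = v * (v⁻¹ * x) by group]
    exact mul_mem hv (Subgroup.subset_closure (Or.inr (Or.inr (by rw [map_mul, map_inv, e, inv_mul_cancel]))))
  have hkV : ∀ v ∈ V, k * v = v * k := fun v hv => by
    induction hv using Subgroup.closure_induction with
    | mem v hv => exact hcomm v hv
    | one => simp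
    | mul v w _ _ e1 e2 => rw [← mul_assoc, e1, mul_assoc, e2, mul_assoc]
    | inv v _ e => rw [eq_inv_mul_iff_mul_eq, ← mul_assoc, ← e, mul_inv_cancel_right]
  have hcz : ∀ v ∈ V, ∀ c ∈ Subgroup.zpowers k, v * c = c * v := fun v hv c hc => by
    obtain ⟨n, rfl⟩ := Subgroup.mem_zpowers_iff.1 hc
    exact ((show Commute v k from (hkV v hv).symm).zpow_right n).eq
  have hgen : ∀ y : X, (∀ g, ξ g = a ∨ ξ g = b ∨ ξ g = 1 → ⁅g, y⁆ ∈ Subgroup.zpowers k) →
      ∀ x ∈ V, ⁅x, y⁆ ∈ Subgroup.zpowers k := fun y hy x hx => by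
    induction hx using Subgroup.closure_induction with
    | mem v hv => exact hy v hv
    | one => simp
    | mul v w hv _ e1 e2 => rw [comm_mul_left (hcz v hv _ e2)]; exact mul_mem e2 e1
    | inv v hv e =>
      rw [show ⁅v⁻¹, y⁆ = v⁻¹ * ⁅v, y⁆⁻¹ * v by simp only [commutatorElement_def]; group,
        hcz v⁻¹ (inv_mem hv) _ (inv_mem e), inv_mul_cancel_right]
      exact inv_mem e
  have hle : ⁅U.comap ξ, U.comap ξ⁆ ≤ Subgroup.zpowers k := by
    rw [Subgroup.commutator_le]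
    intro x hx y hy
    refine hgen y (fun g hg => ?_) x (hUV hx)
    rw [← commutatorElement_inv]
    refine inv_mem (hgen g (fun g' hg' => ?_) y (hUV hy))
    have hsame : ∀ W W', ξ W = ξ W' → ⁅W, W'⁆ ∈ Subgroup.zpowers k := fun W W' e => by
      rw [comm_congr E.central (a' := W) (b' := W) rfl e.symm, commutatorElement_self]; exact one_mem _
    rcases hg' with e' | e' | e'
    · rcases hg with e | e | e
      · exact hsame _ _ (e'.trans e.symm)
      · rw [comm_congr E.central (a' := A) (b' := B) (e'.trans hA.symm) (e.trans hB.symm)]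
        exact Subgroup.mem_zpowers _
      · rw [comm_congr E.central (a' := g') (b' := 1) rfl (e.trans (map_one ξ).symm), commutatorElement_one_right]
        exact one_mem _
    · rcases hg with e | e | e
      · rw [comm_congr E.central (a' := B) (b' := A) (e'.trans hB.symm) (e.trans hA.symm), ← commutatorElement_inv]
        exact inv_mem (Subgroup.mem_zpowers _)
      · exact hsame _ _ (e'.trans e.symm)
      · rw [comm_congr E.central (a' := g') (b' := 1) rfl (e.trans (map_one ξ).symm), commutatorElement_one_right]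
        exact one_mem _
    · rw [comm_congr E.central (a' := 1) (b' := g) (e'.trans (map_one ξ).symm) rfl, commutatorElement_one_left]
      exact one_mem _
  have hk2 : k ^ 2 = 1 := by
    have h1 : ⁅A * A, B⁆ = k * k := comm_mul_left (hcomm A (Or.inl hA)).symm
    have h2 : ⁅A * A, B⁆ = ⁅B * B, B⁆ :=
      comm_congr E.central (by rw [map_mul, map_mul, hA, hB, ← pow_two, ← pow_two, hab]) rfl
    rw [pow_two, ← h1, h2, commutatorElement_eq_one_iff_mul_comm, mul_assoc]
  obtain ⟨n, rfl⟩ := Subgroup.mem_zpowers_iff.1 (hle hz)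
  haveI := Fact.mk Nat.prime_two
  have ho : orderOf (ξ k) = 2 := orderOf_eq_prime (by rw [← map_pow, hk2, map_one]) (by rw [hξk]; exact hne)
  rw [map_zpow, ← orderOf_dvd_iff_zpow_eq_one, ho] at ez
  obtain ⟨j, rfl⟩ := ez
  rw [_root_.zpow_mul, zpow_natCast, hk2, _root_.one_zpow]

/-- The arithmetic behind the vanishing in one dimension. -/
theorem not_dvd_weight {p e q j : ℕ} (hp : p.Prime) (hq : q = p ^ e) (h3 : 3 ≤ q) (hj : j < 2 * e) :
    ¬ q * q - 1 ∣ (2 * q - 1) * (1 + p ^ j) := by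
  intro hd
  by_cases h5 : 5 ≤ q
  · have he : 0 < e := by omega
    have hq1 : q - 1 ∣ q * q - 1 := ⟨q + 1, by
      obtain ⟨s, rfl⟩ : ∃ s, q = s + 1 := ⟨q - 1, by omega⟩
      rw [Nat.add_sub_cancel, show (s + 1) * (s + 1) = s * (s + 1 + 1) + 1 by ring, Nat.add_sub_cancel]⟩
    have h1 : q - 1 ∣ 1 + p ^ j := by
      have h2 : (2 * q - 1) * (1 + p ^ j) = 2 * (q - 1) * (1 + p ^ j) + (1 + p ^ j) := by
        rw [show 2 * q - 1 = 2 * (q - 1) + 1 by omega]; ring
      have := hq1.trans hd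
      rwa [h2, Nat.dvd_add_right ((Dvd.intro_left 2 rfl).mul_right _)] at this
    have hm : q ≡ 1 [MOD q - 1] := ((Nat.modEq_iff_dvd' (by omega)).2 dvd_rfl).symm
    have h3' : 1 + p ^ j ≡ 1 + p ^ (j % e) [MOD q - 1] := by
      refine Nat.ModEq.add_left 1 ?_
      conv_lhs => rw [← Nat.div_add_mod j e, pow_add, pow_mul, ← hq]
      simpa using (hm.pow (j / e)).mul_right (p ^ (j % e))
    have h4 : q - 1 ∣ 1 + p ^ (j % e) := (h3'.dvd_iff dvd_rfl).1 h1
    have h6 : p ^ (j % e) * 2 ≤ q := by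
      rw [hq]
      calc p ^ (j % e) * 2 ≤ p ^ (j % e) * p := Nat.mul_le_mul_left _ hp.two_le
        _ = p ^ (j % e + 1) := (pow_succ _ _).symm
        _ ≤ p ^ e := Nat.pow_le_pow_right hp.pos (Nat.mod_lt _ he)
    have := Nat.le_of_dvd (by positivity) h4
    omega
  · obtain rfl | rfl : q = 3 ∨ q = 4 := by omega
    · obtain ⟨rfl, rfl⟩ : p = 3 ∧ e = 1 := by
        have he : e ≠ 0 := by rintro rfl; simp at hq
        obtain rfl := (Nat.prime_dvd_prime_iff_eq hp Nat.prime_three).1 (hq ▸ dvd_pow_self p he)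
        exact ⟨rfl, Nat.pow_right_injective (show 2 ≤ 3 by norm_num) (show 3 ^ e = 3 ^ 1 by rw [← hq])⟩
      interval_cases j <;> norm_num at hd
    · obtain ⟨rfl, rfl⟩ : p = 2 ∧ e = 2 := by
        have he : e ≠ 0 := by rintro rfl; simp at hq
        have h2 : p ∣ 2 ^ 2 := by rw [show (2 : ℕ) ^ 2 = p ^ e from hq]; exact dvd_pow_self p he
        obtain rfl := (Nat.prime_dvd_prime_iff_eq hp Nat.prime_two).1 (hp.dvd_of_dvd_pow h2)
        exact ⟨rfl, Nat.pow_right_injective (le_refl 2) (show 2 ^ e = 2 ^ 2 by rw [← hq])⟩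
      interval_cases j <;> norm_num at hd

variable {F : Type u} [Field F] [Fintype F] {q m : ℕ}

theorem card_anti (C : Conj F q) (hF : Fintype.card F = q ^ 2) : Nat.card {c : F // C.σ c = -c} = q := by
  obtain ⟨σ, hσ, hf, hcard⟩ := UnitaryStd.exists_setup (n := 1) hF one_pos
  obtain rfl : σ = C.σ := RingEquiv.ext fun x => by rw [hσ, C.apply_eq]
  exact (UMin.card_anti hf.ne_refl hf.involutive).trans hcard

namespace Rad

theorem card_Q {C : Conj F q} (R : Rad C m) (hF : Fintype.card F = q ^ 2) :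
    Nat.card R.Q = q ^ (2 * m + 1) := by
  classical
  choose l hl using exists_adm (C := C) (m := m)
  have hA : ∀ (v : Fin m → F) (c : {c : F // C.σ c = -c}), Adm C v (l v + c.1) := fun v c => by
    have h1 : l v + C.σ (l v) + h (q := q) v v = 0 := hl v
    unfold Adm
    rw [map_add, c.2]
    linear_combination h1
  let Φ : (Fin m → F) × {c : F // C.σ c = -c} → R.Q := fun a => ⟨_, R.e_mem (hA a.1 a.2)⟩
  rw [← Nat.card_congr (Equiv.ofBijective Φ ⟨?_, ?_⟩), Nat.card_prod, card_anti C hF, Nat.card_fun,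
    Nat.card_eq_fintype_card, hF, Nat.card_fin, ← pow_mul, pow_succ]
  · rintro ⟨v, c⟩ ⟨v', c'⟩ e
    obtain ⟨rfl, h2⟩ := R.inj (hA v c) (hA v' c') (congrArg Subtype.val e)
    exact Prod.ext rfl (Subtype.ext (add_left_cancel h2))
  · rintro ⟨_, v, k, H, rfl⟩
    have h1 : l v + C.σ (l v) + h (q := q) v v = 0 := hl v
    have h2 : k + C.σ k + h (q := q) v v = 0 := H
    exact ⟨(v, ⟨k - l v, by rw [map_sub]; linear_combination h2 - h1⟩),
      Subtype.ext (congrArg (R.e v) (add_sub_cancel _ _))⟩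

theorem Q_conj {C : Conj F q} (R : Rad C m) {a δ : F} {t : ↥(Cfsg.SU (m + 2) F q)}
    (hδ : δ * C.σ δ = 1)
    (ht : ∀ {v l}, Adm C v l → t * R.e v l * t⁻¹ = R.e (fun i => C.σ a * δ * v i) (a * C.σ a * l))
    {v : Fin m → F} {l : F} (H : Adm C v l) :
    ∃ l', Adm C ((C.σ a * δ) • v) l' ∧ t * R.e v l * t⁻¹ = R.e ((C.σ a * δ) • v) l' := by
  refine ⟨a * C.σ a * l, ?_, by rw [ht H]; rfl⟩
  unfold Adm at *
  rw [AutPSU.smul_left C, AutPSU.smul_right C]
  simp only [map_mul, C.invol]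
  linear_combination (a * C.σ a) * H + (a * C.σ a * h (q := q) v v) * hδ

end Rad

/-- Adding a hyperbolic pair. -/
theorem exists_kills_radical {C : Conj F q} (R : Rad C m) (hm : 0 < m) (hF : Fintype.card F = q ^ 2)
    {p : ℕ} [Fact p.Prime] {U0 : Subgroup ↥(Cfsg.SU m F q)} (hU0 : Kills p U0) (hi0 : ¬ p ∣ U0.index)
    {M : ℕ} (hM : Nat.card ↥(Cfsg.SU (m + 2) F q) = q ^ (2 * m + 1) * Nat.card ↥(Cfsg.SU m F q) * M)
    (hpM : ¬ p ∣ M) (hQ : Kills p R.Q) {a δ : F} (ha : a ≠ 0) (hδ : δ * C.σ δ = 1)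
    (hdet : a * (C.σ a)⁻¹ * δ ^ m = 1) (hχ : C.σ a * δ ≠ 1) :
    ∃ U : Subgroup ↥(Cfsg.SU (m + 2) F q), ¬ p ∣ U.index ∧ Kills p U := by
  classical
  set P0 := U0.map (inc m) with hP0
  have hN : P0 ≤ Subgroup.normalizer (R.Q : Set ↥(Cfsg.SU (m + 2) F q)) := by
    rintro _ ⟨g, -, rfl⟩
    have hadm : ∀ {g : ↥(Cfsg.SU m F q)} {v l}, Adm C v l → Adm C (act g v) l := fun {g v l} H => by
      unfold Adm; rw [AutPSU.act_pres]; exact H
    refine Subgroup.mem_normalizer_iff.2 fun x => ⟨?_, ?_⟩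
    · rintro ⟨v, l, H, rfl⟩
      exact ⟨_, l, hadm H, R.conj g H⟩
    · rintro ⟨v, l, H, e⟩
      refine ⟨act g⁻¹ v, l, hadm H, ?_⟩
      rw [← R.conj g⁻¹ H, ← e, map_inv]
      group
  have hmeet : R.Q ⊓ P0 = ⊥ := by
    rw [eq_bot_iff]
    rintro _ ⟨⟨v, l, H, rfl⟩, g, -, e⟩
    obtain ⟨rfl, rfl⟩ := R.meet g H e.symm
    rw [R.e_zero]; exact one_mem _
  obtain ⟨t, ht, htc⟩ := R.tor a (fun _ => δ) ha (fun _ => hδ) (by
    rw [Finset.prod_const, Finset.card_univ, Fintype.card_fin]; exact hdet)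
  refine ⟨R.Q ⊔ P0, ?_, kills_sup hN hmeet (τ := t) ?_ ?_ ?_ ?_ hQ (hU0.map _ (Phan.emb_injective 0 _))⟩
  · have hc : Nat.card ↥(R.Q ⊔ P0) = q ^ (2 * m + 1) * Nat.card U0 := by
      rw [← R.card_Q hF, Nat.card_congr (Subgroup.equivMapOfInjective U0 (inc m) (Phan.emb_injective 0 _)).toEquiv,
        ← Nat.card_prod]
      symm
      refine Nat.card_congr (Equiv.ofBijective (fun a => ⟨a.1.1 * a.2.1,
        mul_mem (Subgroup.mem_sup_left a.1.2) (Subgroup.mem_sup_right a.2.2)⟩) ⟨?_, ?_⟩)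
      · exact fun x y e => Subgroup.mul_injective_of_disjoint (disjoint_iff.2 hmeet) (congrArg Subtype.val e)
      · rintro ⟨x, hx⟩
        rw [← SetLike.mem_coe, Subgroup.coe_mul_of_right_le_normalizer_left _ _ hN] at hx
        obtain ⟨y, hy, z, hz, rfl⟩ := hx
        exact ⟨(⟨y, hy⟩, ⟨z, hz⟩), rfl⟩
    have h1 := (R.Q ⊔ P0).card_mul_index
    rw [hc, hM, ← U0.card_mul_index] at h1
    have hq0 : 0 < q := by obtain ⟨σ, -, -, -, -, hq⟩ := HermStd.exists_sigma hF; omega
    have hpos : 0 < q ^ (2 * m + 1) * Nat.card U0 := Nat.mul_pos (pow_pos hq0 _) Nat.card_pos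
    rw [show (R.Q ⊔ P0).index = U0.index * M from Nat.eq_of_mul_eq_mul_left hpos (by rw [h1]; ring),
      (Fact.out : p.Prime).dvd_mul]
    tauto
  · rintro _ ⟨g, -, rfl⟩
    exact htc g fun v => AutPSU.act_smul g δ v
  · rintro _ ⟨v, l, H, rfl⟩
    obtain ⟨l', H', e⟩ := R.Q_conj hδ ht H
    rw [e]; exact R.e_mem H'
  · rintro _ ⟨v, l, H, rfl⟩ hmem
    obtain ⟨l', H', e⟩ := R.Q_conj hδ ht H
    rw [commutatorElement_def, e] at hmem
    obtain ⟨k, Hk, ek⟩ : ∃ k, Adm C (-v) k ∧ (R.e v l)⁻¹ = R.e (-v) k := by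
      obtain ⟨v2, k, Hk, ek⟩ := inv_mem (R.e_mem H)
      have h1 := R.mul H Hk
      rw [← ek, mul_inv_cancel, ← R.e_zero] at h1
      obtain ⟨h2, -⟩ := R.inj (adm_zero (by simp)) (adm_add H Hk) h1
      exact ⟨k, (eq_neg_of_add_eq_zero_right h2.symm) ▸ Hk, (eq_neg_of_add_eq_zero_right h2.symm) ▸ ek⟩
    rw [ek, R.mul H' Hk, R.comm_le hm (adm_add H' Hk), ← sub_eq_add_neg] at hmem
    rw [R.comm_le hm H]
    funext i
    have h2 := congrFun hmem i
    simp only [Pi.sub_apply, Pi.smul_apply, smul_eq_mul, Pi.zero_apply] at h2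
    exact (mul_eq_zero.1 (show (C.σ a * δ - 1) * v i = 0 by linear_combination h2)).resolve_left
      (sub_ne_zero.2 hχ)
  · rintro _ ⟨v, l, H, rfl⟩
    obtain ⟨k, Hk⟩ := exists_adm (C := C) ((C.σ a * δ - 1)⁻¹ • v)
    refine ⟨_, R.e_mem Hk, ?_⟩
    obtain ⟨l', H', e⟩ := R.Q_conj hδ ht Hk
    rw [show ⁅t, R.e ((C.σ a * δ - 1)⁻¹ • v) k⁆⁻¹ * R.e v l =
      R.e ((C.σ a * δ - 1)⁻¹ • v) k * (R.e ((C.σ a * δ) • (C.σ a * δ - 1)⁻¹ • v) l')⁻¹ * R.e v l by
      rw [commutatorElement_def, e, _root_.mul_inv_rev, inv_inv]]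
    obtain ⟨v2, k2, H2, e2⟩ := inv_mem (R.e_mem H')
    have h1 := R.mul H' H2
    rw [← e2, mul_inv_cancel, ← R.e_zero] at h1
    obtain ⟨h2, -⟩ := R.inj (adm_zero (by simp)) (adm_add H' H2) h1
    rw [e2, R.mul Hk H2, R.mul (adm_add Hk H2) H, R.comm_le hm (adm_add (adm_add Hk H2) H),
      eq_neg_of_add_eq_zero_right h2.symm]
    funext i
    simp only [Pi.add_apply, Pi.neg_apply, Pi.smul_apply, smul_eq_mul, Pi.zero_apply]
    field_simp [sub_ne_zero.2 hχ]
    ring

/-- The characteristic prime for `SU₃`. -/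
theorem exists_kills_three_p (hF : Fintype.card F = q ^ 2) (hq : 3 ≤ q) {p : ℕ} [Fact p.Prime] [CharP F p] :
    ∃ U : Subgroup ↥(Cfsg.SU 3 F q), ¬ p ∣ U.index ∧ Kills p U := by
  classical
  obtain ⟨C⟩ := AutPSU.exists_conj hF
  obtain ⟨R⟩ := exists_rad C hF 1
  have hp : p.Prime := Fact.out
  obtain ⟨N, -, hN⟩ := FiniteField.card F p
  obtain ⟨e, -, hqe⟩ := (Nat.dvd_prime_pow hp).1 (show q ∣ p ^ (N : ℕ) by
    rw [← hN, hF]; exact dvd_pow_self q two_ne_zero)
  have hN2 : (N : ℕ) = 2 * e := Nat.pow_right_injective hp.two_le (show p ^ (N : ℕ) = p ^ (2 * e) by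
    rw [← hN, hF, hqe, ← pow_mul, mul_comm])
  obtain ⟨g, hg⟩ := IsCyclic.exists_generator (α := Fˣ)
  have hgo : orderOf g = q * q - 1 := by
    rw [orderOf_eq_card_of_forall_mem_zpowers hg, Nat.card_units, Nat.card_eq_fintype_card, hF, pow_two]
  have hpow : ∀ k : ℕ, (g : F) ^ k = 1 → q * q - 1 ∣ k := fun k e => by
    rw [← hgo]
    exact orderOf_dvd_of_pow_eq_one (Units.ext (by simpa using e))
  refine ⟨R.Q, ?_, Rad.kills_one R hN hF (g := (g : F)) (Units.ne_zero _) ?_ ?_ ?_⟩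
  · have h1 := R.Q.card_mul_index
    rw [R.card_Q hF, card_su3 hF, show q ^ 3 * (q + 1) * ((q + 1) * (q - 1) * (q * q - q + 1)) =
      q ^ (2 * 1 + 1) * ((q + 1) * (q + 1) * (q - 1) * (q * q - q + 1)) by ring] at h1
    rw [Nat.eq_of_mul_eq_mul_left (pow_pos (by omega) _) h1]
    have hpq : p ∣ q := hqe ▸ dvd_pow_self p (by rintro rfl; simp at hqe; omega)
    rw [hp.dvd_mul, hp.dvd_mul, hp.dvd_mul]
    have hn : ¬ p ∣ q + 1 := fun h => hp.not_dvd_one ((Nat.dvd_add_right hpq).1 h)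
    rintro (((h | h) | h) | h)
    · exact hn h
    · exact hn h
    · exact hp.not_dvd_one (by
        have := Nat.dvd_sub hpq h
        rwa [show q - (q - 1) = 1 by omega] at this)
    · exact hp.not_dvd_one ((Nat.dvd_add_right (Nat.dvd_sub (hpq.mul_right q) hpq)).1 h)
  · rw [C.apply_eq, ← pow_succ']
    intro e
    have := Nat.le_of_dvd (by omega) (hpow _ e)
    have : 3 * q ≤ q * q := Nat.mul_le_mul_right q hq
    omega
  · intro j hj e'
    refine not_dvd_weight hp hqe hq (j := j) (by omega) (hpow _ ?_)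
    have h1 : C.σ (g : F) * (C.σ (g : F) / (g : F)) = (g : F) ^ (2 * q - 1) := by
      rw [C.apply_eq, mul_div_assoc', div_eq_iff (Units.ne_zero g), ← pow_add, ← pow_succ]
      congr 1
      omega
    rw [h1] at e'
    rw [mul_add, mul_one, pow_add, pow_mul]
    exact e'
  · obtain ⟨σ, hσ, hne', hinv, hfix, -⟩ := HermStd.exists_sigma hF
    obtain ⟨u, hu⟩ := IsCyclic.exists_generator (α := HermSU.normOne σ)
    have hord : orderOf u = q + 1 := by
      rw [orderOf_eq_card_of_forall_mem_zpowers hu, HermSU.card_normOne hne' hinv hfix]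
    set a : F := ((u : Fˣ) : F) with ha'
    have ha : a * C.σ a = 1 := by rw [C.apply_eq, ← hσ]; exact u.2
    have ha3 : a ^ 3 ≠ 1 := fun e => by
      have := Nat.le_of_dvd (by norm_num) (hord ▸ orderOf_dvd_of_pow_eq_one (x := u) (n := 3)
        (Subtype.ext (Units.ext (by simpa using e))))
      omega
    have ha0 : a ≠ 0 := Units.ne_zero _
    have hσa : C.σ a = a⁻¹ := eq_inv_of_mul_eq_one_right ha
    refine R.centreComm hp one_pos (a := a) (d := fun _ => a⁻¹ * a⁻¹) ha (fun _ => ?_) ?_ fun _ => ?_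
    · rw [map_mul, map_inv₀, hσa]; field_simp
    · rw [Fin.prod_univ_one, hσa]; field_simp
    · rw [hσa]
      intro e
      exact ha3 (by field_simp at e; rw [e])

/-- `SU₃(2)` at the prime two. -/
theorem exists_kills_three_two (hF : Fintype.card F = 2 ^ 2) :
    ∃ U : Subgroup ↥(Cfsg.SU 3 F 2), ¬ 2 ∣ U.index ∧ Kills 2 U := by
  classical
  obtain ⟨C⟩ := AutPSU.exists_conj hF
  obtain ⟨R⟩ := exists_rad C hF 1
  refine ⟨R.Q, ?_, ?_⟩
  · have h1 := R.Q.card_mul_index
    rw [R.card_Q hF, card_su3 hF] at h1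
    omega
  haveI := Fact.mk Nat.prime_two
  haveI : CharP F 2 := charP_of_card_eq_prime_pow hF
  obtain ⟨c, hc, hc1⟩ := exists_norm_one_ne C hF
  have hc3 : c * c ^ 2 = 1 := by rw [← C.apply_eq]; exact hc
  let v1 : F → Fin 1 → F := fun a _ => a
  have hh : ∀ a b, h (q := 2) (v1 a) (v1 b) = a * C.σ b := fun a b => by
    simp [h, Cfsg.hermForm, v1, C.apply_eq]
  obtain ⟨la, Ha⟩ := exists_adm (C := C) (v1 1)
  obtain ⟨lb, Hb⟩ := exists_adm (C := C) (v1 c)
  have hval : ∀ v l (H : Adm C v l), R.e v l ^ 2 = R.e 0 (h (q := 2) v v) := fun v l H => by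
    rw [pow_two, R.mul H H]
    congr 1
    · funext i; exact CharTwo.add_self_eq_zero _
    · linear_combination (l - h (q := 2) v v) * (CharTwo.two_eq_zero (R := F))
  have hcc : c ^ 2 + c = 1 := by
    have : (c - 1) * (c ^ 2 + c + 1) = 0 := by linear_combination hc3
    have h := (mul_eq_zero.1 this).resolve_left (sub_ne_zero.2 hc1)
    linear_combination h - (CharTwo.add_self_eq_zero (1 : F))
  have hsq1 : R.e (v1 1) la ^ 2 = R.e 0 1 := by rw [hval _ _ Ha, hh, map_one, one_mul]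
  refine kills_two_gen (a := R.e (v1 1) la) (b := R.e (v1 c) lb) ?_ ?_ ?_ ?_
  · rintro _ ⟨v, l, H, rfl⟩
    set A := R.e (v1 1) la
    set B := R.e (v1 c) lb
    set S := Subgroup.closure ({A, B} : Set ↥(Cfsg.SU 3 F 2))
    have hAS : A ∈ S := Subgroup.subset_closure (Or.inl rfl)
    have hBS : B ∈ S := Subgroup.subset_closure (Or.inr rfl)
    have hcases : v 0 = 0 ∨ v 0 = 1 ∨ v 0 = c ∨ v 0 = 1 + c := by
      by_cases h0 : v 0 = 0
      · exact Or.inl h0
      have h3 : v 0 ^ 3 = 1 := by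
        have := FiniteField.pow_card_sub_one_eq_one (v 0) h0
        rwa [hF] at this
      by_contra! hne
      have e : (v 0 - 1) * ((v 0 - c) * (v 0 - (1 + c))) = 0 := by
        linear_combination h3 + (1 + c) * (v 0 - v 0 ^ 2) * (CharTwo.two_eq_zero (R := F)) +
          (v 0 - 1) * hcc
      rcases mul_eq_zero.1 e with e | e
      · exact hne.2.1 (sub_eq_zero.1 e)
      rcases mul_eq_zero.1 e with e | e
      · exact hne.2.2.1 (sub_eq_zero.1 e)
      · exact hne.2.2.2 (sub_eq_zero.1 e)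
    obtain ⟨w, k, Hw, hwS, hwv⟩ : ∃ w k, Adm C w k ∧ R.e w k ∈ S ∧ w 0 = v 0 := by
      rcases hcases with e | e | e | e
      · exact ⟨0, 0, adm_zero (by simp), by rw [R.e_zero]; exact one_mem _, e.symm⟩
      · exact ⟨_, _, Ha, hAS, e.symm⟩
      · exact ⟨_, _, Hb, hBS, e.symm⟩
      · exact ⟨_, _, adm_add Ha Hb, R.mul Ha Hb ▸ mul_mem hAS hBS, e.symm⟩
    obtain rfl : w = v := funext fun i => by rw [Fin.fin_one_eq_zero i]; exact hwv
    have hd : C.σ (l - k) = -(l - k) := by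
      have h1 : k + C.σ k + h (q := 2) w w = 0 := Hw
      have h2 : l + C.σ l + h (q := 2) w w = 0 := H
      rw [map_sub]
      linear_combination h2 - h1
    have e : R.e w l = R.e w k * R.e 0 (l - k) := by
      rw [R.mul Hw (adm_zero hd), add_zero, AutPSU.zero_left C]; congr 1; ring
    rw [e]
    refine mul_mem hwS ?_
    have hd2 : (l - k) * (l - k - 1) = 0 := by
      rw [CharTwo.neg_eq, C.apply_eq] at hd
      linear_combination hd
    rcases mul_eq_zero.1 hd2 with h0 | h0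
    · rw [h0, R.e_zero]; exact one_mem _
    · rw [sub_eq_zero.1 h0, ← hsq1]; exact pow_mem hAS 2
  · rw [hval _ _ Ha, hval _ _ Hb, hh, hh, map_one, one_mul, hc]
  · rw [R.e_comm Ha Hb, hsq1, hh, hh, map_one, one_mul, mul_one, CharTwo.sub_eq_add, C.apply_eq, hcc]
  · rw [hsq1, ← R.e_zero]
    intro e
    exact one_ne_zero (R.inj (adm_zero (by rw [map_one, CharTwo.neg_eq])) (adm_zero (by simp)) e).2

/-- Moving a basis vector by an element of order prime to the characteristic. -/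
theorem exists_move (C : Conj F q) (hm : 3 ≤ m) {p : ℕ} (hp : p = 2 ∨ p = 3) (i j : Fin m) (hij : i ≠ j) :
    ∃ g : ↥(Cfsg.SU m F q), act g (bv i) = bv j ∧ ∃ n : ℕ, ¬ p ∣ n ∧ g ^ n = 1 := by
  classical
  obtain ⟨s, hs⟩ := exists_swap C hij
  rcases hp with rfl | rfl
  · obtain ⟨k, hki, hkj⟩ : ∃ k : Fin m, k ≠ i ∧ k ≠ j := by
      obtain ⟨l, hl⟩ := Finset.exists_mem_notMem_of_card_lt_card (s := {i, j}) (t := Finset.univ)
        (by rw [Finset.card_univ, Fintype.card_fin]; exact Finset.card_le_two.trans_lt hm)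
      simp only [Finset.mem_insert, Finset.mem_singleton, not_or] at hl
      exact ⟨l, hl.2⟩
    obtain ⟨t, ht⟩ := exists_swap C hkj.symm
    have hact : ∀ (v : Fin m → F) l, act (s * t) v l =
        if l = i then v k else if l = j then v i else if l = k then v j else v l := by
      intro v l
      rw [act_mul, hs, ht]
      simp only [Function.update_apply]
      split_ifs <;> simp_all
    refine ⟨s * t, funext fun l => ?_, 3, by decide, ext_act fun v => funext fun l => ?_⟩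
    · rw [hact]
      by_cases h1 : l = i
      · subst h1; simp [bv, hij, hki]
      by_cases h2 : l = j
      · subst h2; simp [bv, h1]
      by_cases h3 : l = k
      · subst h3; simp [bv, h1, h2, hij.symm]
      · simp [bv, h1, h2, h3]
    · rw [pow_succ, pow_succ, pow_one, act_mul, act_mul, act_one, hact]
      simp only [hact]
      split_ifs <;> simp_all
  · refine ⟨s, funext fun l => ?_, 4, by decide, ext_act fun v => funext fun l => ?_⟩
    · rw [hs]
      by_cases h1 : l = j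
      · subst h1; simp [bv]
      by_cases h2 : l = i
      · subst h2; simp [bv, h1, hij]
      · simp [bv, h1, h2, Function.update_of_ne h1, Function.update_of_ne h2]
    · rw [pow_succ, pow_succ, pow_succ, pow_one, act_mul, act_mul, act_mul, act_one, hs, hs, hs, hs]
      simp only [Function.update_apply]
      split_ifs <;> simp_all

theorem card_su_mul_eq (hF : Fintype.card F = q ^ 2) {n : ℕ} (hn : 1 ≤ n) {N : ℕ}
    (h : q ^ (n * (n - 1) / 2) * ∏ i ∈ Finset.range n, (if Even i then q ^ (i + 1) + 1 else q ^ (i + 1) - 1) =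
      (q + 1) * N) : Nat.card ↥(Cfsg.SU n F q) = N :=
  Nat.eq_of_mul_eq_mul_left (Nat.succ_pos q) ((S0278.result hF n hn).trans h)

theorem exists_kills_five_two_p (hF : Fintype.card F = 2 ^ 2) :
    ∃ U : Subgroup ↥(Cfsg.SU 5 F 2), ¬ 2 ∣ U.index ∧ Kills 2 U := by
  classical
  haveI := Fact.mk Nat.prime_two
  haveI : CharP F 2 := charP_of_card_eq_prime_pow hF
  obtain ⟨C⟩ := AutPSU.exists_conj hF
  obtain ⟨R⟩ := exists_rad C hF 3
  obtain ⟨c, hc, hc1⟩ := exists_norm_one_ne C hF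
  have hc3 : c ^ 3 = 1 := by rw [show c ^ 3 = c * c ^ 2 by ring, ← C.apply_eq]; exact hc
  obtain ⟨U0, hi0, hU0⟩ := exists_kills_three_two hF
  have h3 : Nat.card ↥(Cfsg.SU 3 F 2) = 216 :=
    card_su_mul_eq hF (by norm_num) (by norm_num [Finset.prod_range_succ, Nat.even_iff])
  have h5 : Nat.card ↥(Cfsg.SU 5 F 2) = 13685760 :=
    card_su_mul_eq hF (by norm_num) (by norm_num [Finset.prod_range_succ, Nat.even_iff])
  have hZ : R.CentreComm 2 := R.centreComm Nat.prime_two (by norm_num) (a := 1) (d := fun _ => c)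
    (by simp) (fun _ => hc) (by simp [hc3]) (fun _ => by simpa using hc1)
  exact exists_kills_radical R (by norm_num) hF hU0 hi0 (M := 495) (by rw [h5, h3]; norm_num) (by decide)
    (R.kills_many hF rfl le_rfl hZ (exists_move C le_rfl (Or.inl rfl))) (a := 1) (δ := c) one_ne_zero hc
    (by simp [hc3]) (by simpa using hc1)

theorem exists_kills_seven_two_p (hF : Fintype.card F = 2 ^ 2) :
    ∃ U : Subgroup ↥(Cfsg.SU 7 F 2), ¬ 2 ∣ U.index ∧ Kills 2 U := by
  classical
  haveI := Fact.mk Nat.prime_two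
  haveI : CharP F 2 := charP_of_card_eq_prime_pow hF
  obtain ⟨C⟩ := AutPSU.exists_conj hF
  obtain ⟨R⟩ := exists_rad C hF 5
  obtain ⟨c, hc, hc1⟩ := exists_norm_one_ne C hF
  have hc0 : c ≠ 0 := fun e => by simp [e] at hc
  have hc3 : c ^ 3 = 1 := by rw [show c ^ 3 = c * c ^ 2 by ring, ← C.apply_eq]; exact hc
  have hc2 : c ^ 2 ≠ 1 := fun e => hc1 (by
    have : c ^ 3 = c := by rw [pow_succ, e, one_mul]
    exact this.symm.trans hc3)
  obtain ⟨U0, hi0, hU0⟩ := exists_kills_five_two_p hF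
  have h5 : Nat.card ↥(Cfsg.SU 5 F 2) = 13685760 :=
    card_su_mul_eq hF (by norm_num) (by norm_num [Finset.prod_range_succ, Nat.even_iff])
  have h7 : Nat.card ↥(Cfsg.SU 7 F 2) = 2 ^ 11 * 13685760 * 8127 :=
    card_su_mul_eq hF (by norm_num) (by norm_num [Finset.prod_range_succ, Nat.even_iff])
  have hcn : c ^ 2 * C.σ (c ^ 2) = 1 := by rw [map_pow, ← mul_pow, hc, one_pow]
  have hZ : R.CentreComm 2 := R.centreComm Nat.prime_two (by norm_num) (a := 1)
    (d := ![c, c, c, c, c ^ 2]) (by simp) (fun i => by fin_cases i <;> simp [hc] <;> simpa using hcn)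
    (by simp [Fin.prod_univ_five]; linear_combination (c ^ 3 + 1) * hc3)
    (fun i => by fin_cases i <;> simp [hc1, hc2])
  have hσc : C.σ c = c ^ 2 := C.apply_eq c
  exact exists_kills_radical R (by norm_num) hF hU0 hi0 (M := 8127) (by rw [h7, h5]) (by decide)
    (R.kills_many hF rfl (by norm_num) hZ (exists_move C (by norm_num) (Or.inl rfl))) (a := c) (δ := c ^ 2)
    hc0 hcn (by rw [hσc]; field_simp; linear_combination (c ^ 6 + c ^ 3 + 1) * hc3)
    (by rw [hσc, show c ^ 2 * c ^ 2 = c * c ^ 3 by ring, hc3, mul_one]; exact hc1)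

theorem exists_kills_five_three_p (hF : Fintype.card F = 3 ^ 2) :
    ∃ U : Subgroup ↥(Cfsg.SU 5 F 3), ¬ 3 ∣ U.index ∧ Kills 3 U := by
  classical
  haveI := Fact.mk Nat.prime_three
  haveI : CharP F 3 := charP_of_card_eq_prime_pow hF
  obtain ⟨C⟩ := AutPSU.exists_conj hF
  obtain ⟨R⟩ := exists_rad C hF 3
  obtain ⟨σ, hσ, hne', hinv, hfix, -⟩ := HermStd.exists_sigma hF
  obtain ⟨u, hu⟩ := IsCyclic.exists_generator (α := HermSU.normOne σ)
  have hord : orderOf u = 4 := by
    rw [orderOf_eq_card_of_forall_mem_zpowers hu, HermSU.card_normOne hne' hinv hfix]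
  set c : F := ((u : Fˣ) : F) with hc'
  have hc : c * C.σ c = 1 := by rw [C.apply_eq, ← hσ]; exact u.2
  have hc4 : c ^ 4 = 1 := by rw [show c ^ 4 = c * c ^ 3 by ring, ← C.apply_eq]; exact hc
  have hne : ∀ k, k < 4 → 0 < k → c ^ k ≠ 1 := fun k hk hk0 e => by
    have := Nat.le_of_dvd hk0 (hord ▸ orderOf_dvd_of_pow_eq_one (x := u) (n := k)
      (Subtype.ext (Units.ext (by simpa using e))))
    omega
  obtain ⟨U0, hi0, hU0⟩ := exists_kills_three_p hF le_rfl (p := 3)
  have h3 : Nat.card ↥(Cfsg.SU 3 F 3) = 6048 :=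
    card_su_mul_eq hF (by norm_num) (by norm_num [Finset.prod_range_succ, Nat.even_iff])
  have h5 : Nat.card ↥(Cfsg.SU 5 F 3) = 3 ^ 7 * 6048 * 19520 :=
    card_su_mul_eq hF (by norm_num) (by norm_num [Finset.prod_range_succ, Nat.even_iff])
  have hc0 : c ≠ 0 := Units.ne_zero _
  have hσ2 : c ^ 2 * C.σ (c ^ 2) = 1 := by rw [map_pow, ← mul_pow, hc, one_pow]
  have hc2 : c ^ 2 ≠ 1 := hne 2 (by norm_num) (by norm_num)
  have hc1 : c ≠ 1 := fun e => hne 1 (by norm_num) one_pos (by rw [e, one_pow])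
  have hZ : R.CentreComm 3 := R.centreComm Nat.prime_three (by norm_num) (a := 1)
    (d := ![c, c, c ^ 2]) (by simp) (fun i => by fin_cases i <;> simp [hc] <;> simpa using hσ2)
    (by simp [Fin.prod_univ_three]; linear_combination hc4)
    (fun i => by fin_cases i <;> simp [hc1, hc2])
  have h2 : (2 : F) ≠ 0 := by
    intro e
    have h23 : ((2 : ℕ) : F) = 0 := by push_cast; exact e
    have := (CharP.cast_eq_zero_iff F 3 2).1 h23
    omega
  exact exists_kills_radical R (by norm_num) hF hU0 hi0 (M := 19520) (by rw [h5, h3]) (by decide)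
    (R.kills_many hF rfl le_rfl hZ (exists_move C le_rfl (Or.inr rfl))) (a := -1) (δ := 1)
    (by simp) (by simp) (by simp) (by
      simp only [map_neg, map_one, mul_one]
      exact fun e => h2 (by linear_combination -e))

end Cfsg.Agent.PSUMult
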