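import Cfsg.Agent.Lib.Schur.SylowCriterion
import Cfsg.Agent.Lib.Schur.Congr
import Cfsg.Agent.S3961
import Cfsg.Agent.S3979
import Mathlib.GroupTheory.OrderOfElement
import Mathlib.Tactic.Group

/-!
# Central extensions with kernel an `r`-group

To show that a perfect group has trivial multiplier it suffices, for each prime `r`, to find a
subgroup of index prime to `r` whose preimage in every central extension with kernel an `r`-group
has derived group meeting the kernel trivially.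
-/

set_option autoImplicit false
set_option linter.style.haveILetI false

namespace Cfsg.Agent.PSUMult

open scoped commutatorElement

universe u

section general

variable {X G : Type u} [Group X] [Group G]

/-- A central extension with kernel an `r`-group. -/
structure RExt (r : ℕ) (ξ : X →* G) : Prop where
  surj : Function.Surjective ξ
  central : ξ.ker ≤ Subgroup.center X
  rker : ∀ z : X, ξ z = 1 → ∃ k : ℕ, z ^ r ^ k = 1

variable {ξ : X →* G}

theorem central_comm (hc : ξ.ker ≤ Subgroup.center X) {z : X} (e : ξ z = 1) (x : X) : z * x = x * z :=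
  (Subgroup.mem_center_iff.1 (hc e) x).symm

theorem comm_congr (hc : ξ.ker ≤ Subgroup.center X) {a a' b b' : X} (ea : ξ a = ξ a') (eb : ξ b = ξ b') :
    ⁅a, b⁆ = ⁅a', b'⁆ := by
  have h := Schur.commutator_mul_central a' b' (a'⁻¹ * a) (b'⁻¹ * b)
    (hc (by rw [MonoidHom.mem_ker, map_mul, map_inv, ea, inv_mul_cancel]))
    (hc (by rw [MonoidHom.mem_ker, map_mul, map_inv, eb, inv_mul_cancel]))
  rwa [mul_inv_cancel_left, mul_inv_cancel_left] at h

theorem RExt.eq_one_of_pow {r : ℕ} (E : RExt r ξ) (hr : r.Prime) {z : X} (hz : ξ z = 1) {e : ℕ}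
    (he : ¬ r ∣ e) (h : z ^ e = 1) : z = 1 := by
  obtain ⟨k, hk⟩ := E.rker z hz
  have h2 := pow_gcd_eq_one (m := e) (n := r ^ k) |>.2 ⟨h, hk⟩
  rwa [Nat.Coprime.gcd_eq_one (((hr.coprime_iff_not_dvd).2 he).symm.pow_right k), pow_one] at h2

theorem RExt.eq_of_pow {r : ℕ} (E : RExt r ξ) (hr : r.Prime) {a b : X} (hab : ξ a = ξ b) {e : ℕ}
    (he : ¬ r ∣ e) (h : a ^ e = b ^ e) : a = b := by
  have h1 : ξ (b⁻¹ * a) = 1 := by rw [map_mul, map_inv, hab, inv_mul_cancel]
  have hcm : Commute b (b⁻¹ * a) := (central_comm E.central h1 b).symm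
  have h2 := hcm.mul_pow e
  rw [mul_inv_cancel_left, h] at h2
  exact (inv_mul_eq_one.1 (E.eq_one_of_pow hr h1 he (mul_eq_left.1 h2.symm))).symm

theorem conj_comm (hc : ξ.ker ≤ Subgroup.center X) {a b g a' b' : X}
    (ea : ξ a' = ξ g * ξ a * (ξ g)⁻¹) (eb : ξ b' = ξ g * ξ b * (ξ g)⁻¹) :
    g * ⁅a, b⁆ * g⁻¹ = ⁅a', b'⁆ := by
  rw [comm_congr hc (a := a') (a' := g * a * g⁻¹) (b := b') (b' := g * b * g⁻¹)
    (by simp [ea]) (by simp [eb])]
  simp only [commutatorElement_def]
  group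

/-- Commutators that fall into the kernel are central. -/
theorem comm_ker (hc : ξ.ker ≤ Subgroup.center X) {a b : X} (h : ⁅ξ a, ξ b⁆ = 1) (x : X) :
    ⁅a, b⁆ * x = x * ⁅a, b⁆ :=
  central_comm hc (by rw [map_commutatorElement, h]) x

theorem comm_mul_left {a b y : X} (h : a * ⁅b, y⁆ = ⁅b, y⁆ * a) :
    ⁅a * b, y⁆ = ⁅b, y⁆ * ⁅a, y⁆ := by
  calc ⁅a * b, y⁆ = a * ⁅b, y⁆ * a⁻¹ * ⁅a, y⁆ := by simp only [commutatorElement_def]; group
    _ = ⁅b, y⁆ * ⁅a, y⁆ := by rw [h, mul_inv_cancel_right]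

/-- An element centralising `H` commutes with the lifts of the elements of `H` having a power
prime to `r` in the derived group. -/
theorem comm_kill {r : ℕ} (E : RExt r ξ) (hr : r.Prime) {H : Subgroup G} {y : X}
    (hy : ∀ h ∈ H, h * ξ y = ξ y * h) {x : X} (hx : ξ x ∈ H) {e : ℕ} (he : ¬ r ∣ e)
    (hxe : ξ x ^ e ∈ ⁅H, H⁆) : ⁅x, y⁆ = 1 := by
  have hk : ∀ a : H.comap ξ, ξ ⁅(a : X), y⁆ = 1 := fun a => by
    rw [map_commutatorElement, commutatorElement_eq_one_iff_mul_comm]; exact hy _ a.2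
  let φ : H.comap ξ →* Subgroup.center X :=
    MonoidHom.mk' (fun a => ⟨⁅(a : X), y⁆, E.central (hk a)⟩) fun a b => Subtype.ext (by
      show ⁅(a : X) * b, y⁆ = ⁅(a : X), y⁆ * ⁅(b : X), y⁆
      rw [comm_mul_left ((central_comm E.central (hk b) a).symm), central_comm E.central (hk b)])
  letI : CommGroup (Subgroup.center X) :=
    { (inferInstance : Group (Subgroup.center X)) with
      mul_comm := fun a b => Subtype.ext (Subgroup.mem_center_iff.1 b.2 a) }
  have hmap : ⁅H.comap ξ, H.comap ξ⁆.map ξ = ⁅H, H⁆ := by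
    rw [Subgroup.map_commutator, Subgroup.map_comap_eq_self_of_surjective E.surj]
  obtain ⟨m, hm, em⟩ := Subgroup.mem_map.1 (hmap.symm ▸ hxe)
  rw [← Subgroup.map_subtype_commutator] at hm
  obtain ⟨m', hm', rfl⟩ := hm
  have h1 : φ m' = 1 := Abelianization.commutator_subset_ker φ hm'
  have h2 : ⁅x ^ e, y⁆ = 1 := by
    rw [comm_congr E.central (a := x ^ e) (a' := (m' : X)) (b := y) (b' := y)
      (by rw [map_pow]; exact em.symm) rfl]
    exact congrArg Subtype.val h1
  have h3 : φ ⟨x, hx⟩ ^ e = 1 := by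
    rw [← map_pow]
    refine Subtype.ext ?_
    show ⁅((⟨x, hx⟩ ^ e : H.comap ξ) : X), y⁆ = 1
    rw [Subgroup.coe_pow]
    exact h2
  exact E.eq_one_of_pow hr (hk ⟨x, hx⟩) he (congrArg Subtype.val h3)

end general

/-- The derived group of the preimage of `U` meets the kernel trivially. -/
def Kills {G : Type u} [Group G] (r : ℕ) (U : Subgroup G) : Prop :=
  ∀ (X : Type u) [Group X] (ξ : X →* G), RExt r ξ →
    ∀ z ∈ ⁅U.comap ξ, U.comap ξ⁆, ξ z = 1 → z = 1

section criterion

variable {G : Type u} [Group G] [Finite G]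

theorem kills_of_trivial (r : ℕ) (U : Subgroup G) (h : Cfsg.HasCyclicSchurMultiplier U 1) :
    Kills r U := by
  intro X _ ξ E z hz e
  rw [← Subgroup.map_subtype_commutator] at hz
  obtain ⟨a, ha, rfl⟩ := hz
  exact Schur.eq_one_of_trivial U h ξ E.surj E.central a.1 e a.2 ha

theorem kills_bot (r : ℕ) : Kills r (⊥ : Subgroup G) := kills_of_trivial r _ S3979.result

/-- A prime dividing the order at most once needs no further argument. -/
theorem exists_kills_small {r : ℕ} (hr : r.Prime) (h : ¬ r ^ 2 ∣ Nat.card G) :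
    ∃ U : Subgroup G, ¬ r ∣ U.index ∧ Kills r U := by
  haveI := Fact.mk hr
  obtain ⟨P⟩ : Nonempty (Sylow r G) := inferInstance
  refine ⟨P, P.not_dvd_index, kills_of_trivial r _ ?_⟩
  obtain ⟨k, hk⟩ := IsPGroup.iff_card.1 P.isPGroup'
  have hk1 : k ≤ 1 := by
    by_contra hlt
    exact h ((pow_dvd_pow r (by omega)).trans (hk ▸ Subgroup.card_subgroup_dvd_card _))
  haveI : IsCyclic (P : Subgroup G) := by
    rcases Nat.le_one_iff_eq_zero_or_eq_one.1 hk1 with rfl | rfl
    · haveI : Subsingleton (P : Subgroup G) :=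
        (Nat.card_eq_one_iff_unique.1 (by rw [hk, pow_zero])).1
      infer_instance
    · exact isCyclic_of_prime_card (by rw [hk, pow_one])
  exact S3979.result

/-- Trivial multiplier of a perfect group, prime by prime. -/
theorem mult_one_of_kills (hperf : commutator G = ⊤)
    (h : ∀ r : ℕ, r.Prime → ∃ U : Subgroup G, ¬ r ∣ U.index ∧ Kills r U) :
    Cfsg.HasCyclicSchurMultiplier G 1 := by
  refine Schur.hasCyclicSchurMultiplier_one_of fun X _ ξ hs hc => ?_
  haveI : Finite (commutator X) := Schur.finite_commutator ξ hc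
  let η : commutator X →* G := ξ.comp (commutator X).subtype
  have hηs : Function.Surjective η := fun g => by
    have hg : g ∈ (commutator X).map ξ := by
      rw [_root_.map_commutator_eq, MonoidHom.range_eq_top.2 hs, ← commutator_def, hperf]
      trivial
    obtain ⟨x, hx, rfl⟩ := hg
    exact ⟨⟨x, hx⟩, rfl⟩
  have hηc : η.ker ≤ Subgroup.center _ := fun a ha => Subgroup.mem_center_iff.2 fun b =>
    Subtype.ext (Subgroup.mem_center_iff.1 (hc (show ξ (a : X) = 1 from ha)) b.1)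
  have hperf' : commutator (commutator X) = ⊤ := by
    apply Subgroup.map_injective (commutator X).subtype_injective
    rw [_root_.map_commutator_eq, ← MonoidHom.range_eq_map, Subgroup.range_subtype]
    refine le_antisymm (Subgroup.commutator_le_self _) ?_
    rw [commutator_def, Subgroup.commutator_le]
    intro x _ y _
    obtain ⟨a, ha⟩ := hηs (ξ x)
    obtain ⟨b, hb⟩ := hηs (ξ y)
    rw [comm_congr hc (show ξ x = ξ (a : X) from ha.symm) (show ξ y = ξ (b : X) from hb.symm)]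
    exact Subgroup.commutator_mem_commutator a.2 b.2
  rw [eq_bot_iff]
  rintro z ⟨hz, hzc⟩
  rw [Subgroup.mem_bot]
  set a : commutator X := ⟨z, hzc⟩ with ha
  suffices a = 1 from congrArg Subtype.val this
  rw [← orderOf_eq_one_iff]
  by_contra hne
  obtain ⟨r, hr, hrd⟩ := Nat.exists_prime_and_dvd hne
  -- discard the part of the kernel of order prime to r
  let K' : Subgroup (commutator X) :=
    { carrier := {w | η w = 1 ∧ (orderOf w).Coprime r}
      one_mem' := ⟨map_one η, by simp⟩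
      mul_mem' := fun {v w} hv hw => ⟨by rw [map_mul, hv.1, hw.1, one_mul],
        Nat.Coprime.coprime_dvd_left
          (((show Commute v w from central_comm hηc hv.1 w).orderOf_mul_dvd_lcm).trans (Nat.lcm_dvd_mul _ _))
          (hv.2.mul_left hw.2)⟩
      inv_mem' := fun {w} hw => ⟨by rw [map_inv, hw.1, inv_one], by rw [orderOf_inv]; exact hw.2⟩ }
  have hK'c : K' ≤ Subgroup.center _ := fun w hw => hηc hw.1
  haveI : K'.Normal := Schur.normal_of_le_center hK'c
  let ξ₂ : commutator X ⧸ K' →* G := QuotientGroup.lift K' η fun w hw => hw.1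
  have E : RExt r ξ₂ := by
    refine ⟨fun g => ?_, fun w hw => ?_, fun w hw => ?_⟩
    · obtain ⟨x, rfl⟩ := hηs g
      exact ⟨x, rfl⟩
    · obtain ⟨x, rfl⟩ := QuotientGroup.mk_surjective w
      refine Subgroup.mem_center_iff.2 fun v => ?_
      obtain ⟨y, rfl⟩ := QuotientGroup.mk_surjective v
      rw [← QuotientGroup.mk_mul, ← QuotientGroup.mk_mul,
        Subgroup.mem_center_iff.1 (hηc (show η x = 1 from hw)) y]
    · obtain ⟨x, rfl⟩ := QuotientGroup.mk_surjective w
      have hx : η x = 1 := hw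
      obtain ⟨k, m, hm, hn⟩ := Nat.exists_eq_pow_mul_and_not_dvd (orderOf_pos x).ne' r hr.ne_one
      refine ⟨k, ?_⟩
      rw [← QuotientGroup.mk_pow, QuotientGroup.eq_one_iff]
      refine ⟨by rw [map_pow, hx, one_pow], ?_⟩
      rw [orderOf_pow, hn, Nat.gcd_eq_right (Dvd.intro m rfl),
        Nat.mul_div_cancel_left _ (pow_pos hr.pos k)]
      exact ((hr.coprime_iff_not_dvd).2 hm).symm
  obtain ⟨U, hrU, hU⟩ := h r hr
  haveI : Finite (commutator X ⧸ K') := inferInstance
  have h1 : (a : commutator X ⧸ K') ^ U.index = 1 :=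
    Schur.pow_index_eq_one ξ₂ E.surj U (fun w hw hwU hwc => hU _ ξ₂ E w
        (by rw [← Subgroup.map_subtype_commutator]; exact ⟨_, hwc, rfl⟩) hw)
      (E.central (show η a = 1 from hz)) (show η a = 1 from hz)
      (by
        have h2 := Subgroup.mem_map_of_mem (QuotientGroup.mk' K')
          (show a ∈ commutator (commutator X) by rw [hperf']; trivial)
        rw [_root_.map_commutator_eq, MonoidHom.range_eq_top.2 (QuotientGroup.mk'_surjective K'),
          ← commutator_def] at h2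
        exact h2)
  have h2 := E.eq_one_of_pow hr (show η a = 1 from hz) hrU h1
  exact (hr.coprime_iff_not_dvd.1 ((QuotientGroup.eq_one_iff a).1 h2).2.symm) hrd

end criterion

section pullback

variable {X G H : Type u} [Group X] [Group G] [Group H]

/-- The fibre product. -/
def pull (ξ : X →* G) (j : H →* G) : Subgroup (X × H) where
  carrier := {a | ξ a.1 = j a.2}
  one_mem' := by simp
  mul_mem' {a b} ha hb := by
    show ξ (a.1 * b.1) = j (a.2 * b.2)
    rw [map_mul, map_mul, show ξ a.1 = j a.2 from ha, show ξ b.1 = j b.2 from hb]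
  inv_mem' {a} ha := by
    show ξ a.1⁻¹ = j a.2⁻¹
    rw [map_inv, map_inv, show ξ a.1 = j a.2 from ha]

theorem pull_surjective {ξ : X →* G} (hs : Function.Surjective ξ) (j : H →* G) :
    Function.Surjective ((MonoidHom.snd X H).comp (pull ξ j).subtype) := fun h => by
  obtain ⟨x, hx⟩ := hs (j h)
  exact ⟨⟨(x, h), hx⟩, rfl⟩

theorem pull_central {ξ : X →* G} (hc : ξ.ker ≤ Subgroup.center X) (j : H →* G) :
    ((MonoidHom.snd X H).comp (pull ξ j).subtype).ker ≤ Subgroup.center _ := fun a ha => by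
  have h2 : a.1.2 = 1 := ha
  refine Subgroup.mem_center_iff.2 fun b => Subtype.ext (Prod.ext ?_ ?_)
  · exact Subgroup.mem_center_iff.1 (hc (show ξ a.1.1 = 1 by rw [a.2, h2, map_one])) _
  · show b.1.2 * a.1.2 = a.1.2 * b.1.2
    rw [h2, mul_one, one_mul]

theorem RExt.pull {r : ℕ} {ξ : X →* G} (E : RExt r ξ) (j : H →* G) :
    RExt r ((MonoidHom.snd X H).comp (PSUMult.pull ξ j).subtype) := by
  refine ⟨pull_surjective E.surj j, pull_central E.central j, fun a ha => ?_⟩
  have h2 : a.1.2 = 1 := ha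
  obtain ⟨k, hk⟩ := E.rker a.1.1 (by rw [a.2, h2, map_one])
  exact ⟨k, Subtype.ext (Prod.ext hk (by show a.1.2 ^ r ^ k = 1; rw [h2, one_pow]))⟩

theorem Kills.map {r : ℕ} {U : Subgroup H} (hU : Kills r U) (j : H →* G) (hj : Function.Injective j) :
    Kills r (U.map j) := by
  intro X _ ξ E z hz e
  let π₁ : pull ξ j →* X := (MonoidHom.fst X H).comp (pull ξ j).subtype
  have hmap : (U.comap ((MonoidHom.snd X H).comp (pull ξ j).subtype)).map π₁ = (U.map j).comap ξ := by
    ext x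
    constructor
    · rintro ⟨a, ha, rfl⟩
      exact ⟨a.1.2, ha, a.2.symm⟩
    · rintro ⟨u, hu, e'⟩
      exact ⟨⟨(x, u), e'.symm⟩, hu, rfl⟩
  rw [← hmap, ← Subgroup.map_commutator] at hz
  obtain ⟨a, ha, rfl⟩ := hz
  have h2 : a.1.2 = 1 := hj (by rw [← a.2, map_one]; exact e)
  rw [hU _ _ (E.pull j) a ha h2, map_one]

/-- A perfect group with trivial multiplier lifts along every central extension. -/
theorem exists_lift [Finite H] (hperf : commutator H = ⊤) (h1 : Cfsg.HasCyclicSchurMultiplier H 1)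
    (ξ : X →* G) (hs : Function.Surjective ξ) (hc : ξ.ker ≤ Subgroup.center X) (j : H →* G) :
    ∃ τ : H →* X, ∀ h, ξ (τ h) = j h := by
  obtain ⟨η, hη⟩ := (S3961.result ⟨hperf⟩ (MonoidHom.id H) Function.surjective_id
    (by rw [MonoidHom.ker_id]; exact bot_le)).2 h1 (pull ξ j)
      ((MonoidHom.snd X H).comp (pull ξ j).subtype) (pull_surjective hs j) (pull_central hc j)
  refine ⟨((MonoidHom.fst X H).comp (pull ξ j).subtype).comp η, fun h => ?_⟩
  have h2 : (η h).1.2 = h := DFunLike.congr_fun hη h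
  show ξ (η h).1.1 = j h
  rw [(η h).2, h2]

theorem lift_unique (hperf : commutator H = ⊤) {ξ : X →* G} (hc : ξ.ker ≤ Subgroup.center X)
    {τ τ' : H →* X} (h : ∀ a, ξ (τ a) = ξ (τ' a)) : τ = τ' :=
  MonoidHom.ext fun a => Schur.eq_on_commutator ξ hc τ τ' (MonoidHom.ext h) a
    (by rw [hperf]; trivial)

theorem commute_of_perfect (hperf : commutator H = ⊤) {ξ : X →* G} (hc : ξ.ker ≤ Subgroup.center X)
    (τ : H →* X) {y : X} (h : ∀ a, ξ (τ a) * ξ y = ξ y * ξ (τ a)) (a : H) : Commute (τ a) y := by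
  have e := lift_unique hperf hc (τ := τ) (τ' := (MulAut.conj y).toMonoidHom.comp τ) fun b => by
    simp [← h b]
  have e2 := DFunLike.congr_fun e a
  simp only [MonoidHom.comp_apply, MulEquiv.coe_toMonoidHom, MulAut.conj_apply] at e2
  show τ a * y = y * τ a
  conv_lhs => rw [e2]
  group

end pullback

/-- A normal subgroup with cyclic quotient whose abelianisation has exponent prime to `r`. -/
theorem kills_ext {G : Type u} [Group G] {r : ℕ} (hr : r.Prime) {L H : Subgroup G}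
    (hN : H ≤ Subgroup.normalizer (L : Set G)) {c : G}
    (hc : ∀ h ∈ H, ∃ l ∈ L, ∃ i : ℤ, h = l * c ^ i) {e : ℕ} (he : ¬ r ∣ e)
    (hLe : ∀ l ∈ L, l ^ e ∈ ⁅L, L⁆) (hL : Kills r L) : Kills r H := by
  intro X _ ξ E z hz ez
  set L0 : Subgroup X := L.comap ξ with hL0
  obtain ⟨γ, hγ⟩ := E.surj c
  let T : Subgroup X := (((powMonoidHom e).comp (Abelianization.of (G := L0))).ker).map L0.subtype
  have hdec : ∀ a ∈ H.comap ξ, ∃ l ∈ L0, ∃ i : ℤ, a = l * γ ^ i := fun a ha => by
    obtain ⟨l, hl, i, e'⟩ := hc (ξ a) ha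
    refine ⟨a * (γ ^ i)⁻¹, ?_, i, by group⟩
    show ξ _ ∈ L
    rw [map_mul, map_inv, map_zpow, hγ, e']
    simpa using hl
  have hconjH : ∀ a ∈ H.comap ξ, ∀ l ∈ L0, a * l * a⁻¹ ∈ L0 := fun a ha l hl => by
    show ξ _ ∈ L
    rw [map_mul, map_mul, map_inv]
    exact (Subgroup.mem_normalizer_iff.1 (hN ha) _).1 hl
  have hpow : ∀ (l : L0) (δ : X) (hδ : δ * (l : X) * δ⁻¹ ∈ L0), (∀ m ∈ L0, δ * m * δ⁻¹ ∈ L0) →
      Abelianization.of (⟨δ * l * δ⁻¹, hδ⟩ : L0) ^ e = Abelianization.of l ^ e := by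
    intro l δ hδ hall
    have hmap : ⁅L0, L0⁆.map ξ = ⁅L, L⁆ := by
      rw [hL0, Subgroup.map_commutator, Subgroup.map_comap_eq_self_of_surjective E.surj]
    obtain ⟨m, hm, em⟩ := Subgroup.mem_map.1
      (hmap.symm ▸ hLe (ξ (l : X)) l.2 : ξ (l : X) ^ e ∈ ⁅L0, L0⁆.map ξ)
    rw [← Subgroup.map_subtype_commutator] at hm
    obtain ⟨m', hm', rfl⟩ := hm
    set k : X := (m' : X)⁻¹ * (l : X) ^ e with hk
    have hk1 : ξ k = 1 := by
      rw [hk, map_mul, map_inv, map_pow]
      exact inv_mul_eq_one.2 em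
    let cj : L0 →* L0 := (((MulAut.conj δ).toMonoidHom).comp L0.subtype).codRestrict L0
      fun a => hall a a.2
    have hcm : Abelianization.of (cj m') = 1 :=
      Abelianization.commutator_subset_ker (Abelianization.of.comp cj) hm'
    have hkL : k ∈ L0 := by show ξ k ∈ L; rw [hk1]; exact one_mem L
    have e1 : l ^ e = m' * ⟨k, hkL⟩ := Subtype.ext (by simp [hk])
    have e2 : cj ⟨k, hkL⟩ = ⟨k, hkL⟩ := Subtype.ext (by
      show δ * k * δ⁻¹ = k
      rw [← central_comm E.central hk1 δ]; group)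
    rw [← map_pow, ← map_pow, show (⟨δ * l * δ⁻¹, hδ⟩ : L0) = cj l from rfl, ← map_pow, e1,
      map_mul, map_mul, map_mul, hcm, e2,
      show Abelianization.of m' = 1 from Abelianization.commutator_subset_ker _ hm', one_mul]
  have hγH : ∀ a ∈ H.comap ξ, ∀ l ∈ L0, ∀ i : ℤ, a = l * γ ^ i → ∀ m ∈ L0, γ ^ i * m * (γ ^ i)⁻¹ ∈ L0 :=
    fun a ha l hl i e' m hm => by
      have : γ ^ i = l⁻¹ * a := by rw [e']; group
      rw [this, show l⁻¹ * a * m * (l⁻¹ * a)⁻¹ = l⁻¹ * (a * m * a⁻¹) * l by group]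
      exact mul_mem (mul_mem (inv_mem hl) (hconjH a ha m hm)) hl
  have hle : ⁅H.comap ξ, H.comap ξ⁆ ≤ T := by
    rw [Subgroup.commutator_le]
    intro a ha b hb
    obtain ⟨l, hl, i, rfl⟩ := hdec a ha
    obtain ⟨m, hm, j, rfl⟩ := hdec b hb
    have h1 := hγH _ ha l hl i rfl
    have h2 := hγH _ hb m hm j rfl
    have key : ⁅l * γ ^ i, m * γ ^ j⁆ =
        l * (γ ^ i * m * (γ ^ i)⁻¹) * (γ ^ j * l * (γ ^ j)⁻¹)⁻¹ * m⁻¹ := by
      simp only [commutatorElement_def]; group
    refine ⟨⟨l, hl⟩ * ⟨_, h1 m hm⟩ * ⟨_, h2 l hl⟩⁻¹ * ⟨m, hm⟩⁻¹, ?_, key.symm⟩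
    show (Abelianization.of (_ : L0)) ^ e = 1
    rw [map_mul, map_mul, map_mul, map_inv, map_inv, mul_pow, mul_pow, mul_pow, inv_pow, inv_pow,
      hpow ⟨m, hm⟩ _ (h1 m hm) h1, hpow ⟨l, hl⟩ _ (h2 l hl) h2, mul_inv_cancel_comm,
      mul_inv_cancel]
  obtain ⟨a, ha, rfl⟩ := hle hz
  have h3 : a ^ e ∈ commutator L0 := by
    rw [← Abelianization.ker_of, MonoidHom.mem_ker, map_pow]; exact ha
  refine E.eq_one_of_pow hr ez he (hL X ξ E _ ?_ (by rw [map_pow, ez, one_pow]))
  rw [← Subgroup.map_subtype_commutator]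
  exact ⟨_, h3, by simp⟩

end Cfsg.Agent.PSUMult
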