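import Cfsg.Agent.Lib.PSUMult.Setup
import Cfsg.Agent.Lib.Co2Mult.Engine
import Mathlib.LinearAlgebra.Dual.Lemmas

/-!
# The induction steps

Two lifted block subgroups amalgamate; for large dimension the covering of the orthogonality graph
of unit vectors gives the step over every field.
-/

set_option autoImplicit false
set_option linter.unusedSectionVars false
set_option linter.style.haveILetI false
set_option linter.style.show false

namespace Cfsg.Agent.PSUMult

open scoped commutatorElement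
open Matrix
open Cfsg.Agent.AutPSU (Conj h act act_mul act_one act_pres ext_act add_left smul_left sub_left self_fixed)
open Cfsg.Agent.Phan (bv emb E0 E1 emb_emb emb_comm gen_step w3 w3_bv emb_bv_eq emb_range emb_fix)

universe u

variable {F : Type u} [Field F] [Fintype F] {q : ℕ}

/-- A splitting of a central extension keeps the kernel out of the derived group. -/
theorem inf_commutator_of_split {X G : Type*} [Group X] [Group G] {ξ : X →* G}
    (hc : ξ.ker ≤ Subgroup.center X) (τ : G →* X) (hτ : ∀ g, ξ (τ g) = g) :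
    ξ.ker ⊓ commutator X = ⊥ := by
  rw [eq_bot_iff]
  rintro x ⟨hx, hxc⟩
  have hle : commutator X ≤ τ.range := by
    rw [commutator_def, Subgroup.commutator_le]
    intro a _ b _
    refine ⟨⁅ξ a, ξ b⁆, ?_⟩
    have ha : a = τ (ξ a) * ((τ (ξ a))⁻¹ * a) := by group
    have hb : b = τ (ξ b) * ((τ (ξ b))⁻¹ * b) := by group
    rw [map_commutatorElement]
    conv_rhs => rw [ha, hb]
    exact (Schur.commutator_mul_central _ _ _ _
      (hc (by rw [MonoidHom.mem_ker, map_mul, map_inv, hτ, inv_mul_cancel]))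
      (hc (by rw [MonoidHom.mem_ker, map_mul, map_inv, hτ, inv_mul_cancel]))).symm
  obtain ⟨g, rfl⟩ := hle hxc
  have : g = 1 := by rw [← hτ g]; exact hx
  rw [Subgroup.mem_bot, this, map_one]

/-- The step by amalgamation. -/
theorem mult_succ (hF : Fintype.card F = q ^ 2) {m : ℕ} (hm : 3 ≤ m) (hq : 3 ≤ q)
    (hc45 : 4 ≤ q ∨ 5 ≤ m + 1) (hp : commutator ↥(Cfsg.SU (m - 1) F q) = ⊤)
    (hpm : commutator ↥(Cfsg.SU m F q) = ⊤)
    (h1 : Cfsg.HasCyclicSchurMultiplier ↥(Cfsg.SU m F q) 1) :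
    Cfsg.HasCyclicSchurMultiplier ↥(Cfsg.SU (m + 1) F q) 1 := by
  obtain ⟨C⟩ := AutPSU.exists_conj hF
  refine Schur.hasCyclicSchurMultiplier_one_of fun X _ ξ hs hc => ?_
  have he0 : 0 + m ≤ m + 1 := by omega
  have he1 : 1 + m ≤ m + 1 := by omega
  obtain ⟨f0, hf0⟩ := exists_lift hpm h1 ξ hs hc (E0 (F := F) (q := q) m)
  obtain ⟨f0', hf0'⟩ := exists_lift hpm h1 ξ hs hc (emb (F := F) (q := q) 1 he1)
  have ha0 : 0 + (m - 1) ≤ m := by omega
  have ha1 : 1 + (m - 1) ≤ m := by omega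
  have hlast : m - 3 + 3 ≤ m := by omega
  have hpre : ∀ s, f0 (emb (F := F) (q := q) 1 ha1 s) = f0' (emb 0 ha0 s) := fun s =>
    DFunLike.congr_fun (lift_unique hp hc (τ := f0.comp (emb 1 ha1)) (τ' := f0'.comp (emb 0 ha0))
      fun t => by
        simp only [MonoidHom.comp_apply, hf0, hf0']
        rw [E0, emb_emb 0 _ 1 ha1 1 (by omega) (by omega), emb_emb 1 he1 0 ha0 1 (by omega) (by omega)]) s
  let f1 : Cfsg.SU 3 F q →* X := f0'.comp (emb (m - 3) hlast)
  have hf1 : ∀ s, ξ (f1 s) = E1 m hm s := fun s => by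
    simp only [f1, MonoidHom.comp_apply, hf0']
    rw [E1, emb_emb 1 he1 (m - 3) hlast (m - 2) (by omega) (by omega)]
  have hcompat : ∀ s : Cfsg.SU 2 F q, f0 (emb (m - 2) (show m - 2 + 2 ≤ m by omega) s) =
      f1 (emb 0 (show 0 + 2 ≤ 3 by omega) s) := fun s => by
    rw [← emb_emb 1 ha1 (m - 3) (show m - 3 + 2 ≤ m - 1 by omega) (m - 2) (by omega) (by omega) s, hpre]
    show _ = f0' _
    rw [emb_emb 0 ha0 (m - 3) _ (m - 3) (by omega) (by omega),
      emb_emb (m - 3) hlast 0 _ (m - 3) (by omega) (by omega)]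
  have hcomm : ∀ (s : Cfsg.SU 2 F q) (t : Cfsg.SU (m - 1) F q),
      Commute (f1 (emb 1 (show 1 + 2 ≤ 3 by omega) s)) (f0 (emb 0 (show 0 + (m - 1) ≤ m by omega) t)) := by
    intro s t
    refine (commute_of_perfect hp hc (f0.comp (emb 0 ha0))
      (y := f1 (emb 1 (show 1 + 2 ≤ 3 by omega) s)) (fun a => ?_) t).symm
    simp only [MonoidHom.comp_apply, hf0, hf1]
    rw [E0, E1, emb_emb 0 _ 0 ha0 0 (by omega) (by omega),
      emb_emb (m - 2) _ 1 _ (m - 1) (by omega) (by omega)]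
    exact (emb_comm 0 _ (m - 1) _ (by omega) a s).eq
  obtain ⟨f, hE0, hE1⟩ := Phan.stage C hF hm f0 f1 hq hc45 hcompat hcomm
  refine inf_commutator_of_split hc f ?_
  have htop := gen_step C hF hq (k := m) (by omega) ((ξ.comp f).eqLocus (MonoidHom.id _))
    (fun s => by show ξ (f (E0 m s)) = E0 m s; rw [hE0, hf0])
    (E1 m hm (w3 C hF)) (by show ξ (f (E1 m hm (w3 C hF))) = _; rw [hE1, hf1]; rfl)
    (emb_bv_eq (m - 2) _ (w3 C hF) 2 1 _ _ (by simp; omega) (by simp; omega) (w3_bv C hF).1)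
  intro g
  exact (htop ▸ Subgroup.mem_top g : g ∈ (ξ.comp f).eqLocus (MonoidHom.id _))

/-! ### the graph of unit vectors -/

section graph

variable {n : ℕ}

/-- A unit vector orthogonal to four vectors, two of which are orthonormal. -/
theorem exists_perp_four (C : Conj F q) (hn : 7 ≤ n) (x : Fin 4 → Fin n → F)
    (h0 : h (q := q) (x 0) (x 0) = 1) (h1 : h (q := q) (x 1) (x 1) = 1)
    (h01 : h (q := q) (x 0) (x 1) = 0) :
    ∃ v : Fin n → F, h (q := q) v v = 1 ∧ ∀ i, h (q := q) v (x i) = 0 := by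
  have h10 := (AutPSU.eq_zero_comm C).1 h01
  let φ : (Fin n → F) →ₗ[F] (Fin 4 → F) := LinearMap.pi fun i => AutPSU.form C (x i)
  by_contra hc
  push Not at hc
  have hiso : ∀ v ∈ LinearMap.ker φ, h (q := q) v v = 0 := by
    intro v hv
    by_contra hne
    obtain ⟨γ, -, hγ⟩ := Phan.exists_unit C hne
    obtain ⟨i, hi⟩ := hc (γ • v) hγ
    refine hi ?_
    rw [smul_left C, show h (q := q) v (x i) = 0 from congrFun (LinearMap.mem_ker.1 hv) i, mul_zero]
  have hzero : ∀ u ∈ LinearMap.ker φ, ∀ v ∈ LinearMap.ker φ, h (q := q) u v = 0 := by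
    intro u hu v hv
    by_contra hne
    obtain ⟨μ, hμ⟩ := C.ne_one
    set z := h (q := q) u v with hz
    have key : ∀ c : F, C.σ c * z + c * C.σ z = 0 := fun c => by
      have := hiso (u + c • v) (add_mem hu (Submodule.smul_mem _ _ hv))
      rw [AutPSU.add_left C, AutPSU.add_right C, AutPSU.add_right C, smul_left C, smul_left C,
        AutPSU.smul_right C, AutPSU.smul_right C, hiso u hu, hiso v hv, AutPSU.symm C u v, ← hz] at this
      linear_combination this
    have e1 := key 1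
    have e2 := key μ
    rw [map_one] at e1
    have : (C.σ μ - μ) * z = 0 := by linear_combination e2 - μ * e1
    exact (mul_eq_zero.1 this).elim (fun e => hμ (sub_eq_zero.1 e)) hne
  set y2 := x 2 - h (q := q) (x 2) (x 0) • x 0 - h (q := q) (x 2) (x 1) • x 1 with hy2
  set y3 := x 3 - h (q := q) (x 3) (x 0) • x 0 - h (q := q) (x 3) (x 1) • x 1 with hy3
  have hle : LinearMap.ker φ ≤ Submodule.span F {y2, y3} := by
    intro s hs
    have hmem : AutPSU.form C s ∈ Submodule.span F (Set.range fun i => AutPSU.form C (x i)) := by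
      refine mem_span_of_iInf_ker_le_ker fun z hz => ?_
      have hzφ : z ∈ LinearMap.ker φ := LinearMap.mem_ker.2 (funext fun i => by
        exact LinearMap.mem_ker.1 ((Submodule.mem_iInf _).1 hz i))
      exact LinearMap.mem_ker.2 (hzero z hzφ s hs)
    obtain ⟨c, hc'⟩ := (Submodule.mem_span_range_iff_exists_fun F).1 hmem
    have hsum : s = ∑ i, C.σ (c i) • x i := by
      refine sub_eq_zero.1 (AutPSU.nondeg C fun w => ?_)
      rw [AutPSU.eq_zero_comm C, AutPSU.sub_right C]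
      have e := DFunLike.congr_fun hc' w
      simp only [LinearMap.sum_apply, LinearMap.smul_apply, AutPSU.form_apply, smul_eq_mul] at e
      simp only [Fin.sum_univ_four, AutPSU.add_right C, AutPSU.smul_right C, C.invol] at e ⊢
      linear_combination -e
    rw [Fin.sum_univ_four] at hsum
    generalize C.σ (c 0) = d0, C.σ (c 1) = d1, C.σ (c 2) = d2, C.σ (c 3) = d3 at hsum
    have e0 : h (q := q) s (x 0) = 0 := congrFun (LinearMap.mem_ker.1 hs) 0
    have e1 : h (q := q) s (x 1) = 0 := congrFun (LinearMap.mem_ker.1 hs) 1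
    rw [hsum, add_left C, add_left C, add_left C, smul_left C, smul_left C, smul_left C, smul_left C,
      h0, h10] at e0
    rw [hsum, add_left C, add_left C, add_left C, smul_left C, smul_left C, smul_left C, smul_left C,
      h1, h01] at e1
    refine Submodule.mem_span_pair.2 ⟨d2, d3, ?_⟩
    have hd0 : d0 = -(d2 * h (q := q) (x 2) (x 0) + d3 * h (q := q) (x 3) (x 0)) := by
      linear_combination e0
    have hd1 : d1 = -(d2 * h (q := q) (x 2) (x 1) + d3 * h (q := q) (x 3) (x 1)) := by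
      linear_combination e1
    rw [hsum, hd0, hd1, hy2, hy3]
    module
  have hr1 := Submodule.finrank_mono hle
  have hr2 : Module.finrank F (Submodule.span F ({y2, y3} : Set (Fin n → F))) ≤ 2 := by
    classical
    have := finrank_span_finset_le_card (R := F) ({y2, y3} : Finset (Fin n → F))
    rw [Finset.coe_insert, Finset.coe_singleton] at this
    exact this.trans Finset.card_le_two
  have hr3 := φ.finrank_range_add_finrank_ker
  have hr4 := Submodule.finrank_le (LinearMap.range φ)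
  rw [Module.finrank_fintype_fun_eq_card, Fintype.card_fin] at hr3 hr4
  omega

end graph

/-- The unit vectors. -/
def Unit1 (F : Type*) [Field F] (q n : ℕ) : Type _ := {v : Fin n → F // h (q := q) v v = 1}

instance (n : ℕ) : MulAction ↥(Cfsg.SU n F q) (Unit1 F q n) where
  smul g v := ⟨act g v.1, (act_pres g v.1 v.1).trans v.2⟩
  one_smul v := Subtype.ext (act_one v.1)
  mul_smul g g' v := Subtype.ext (act_mul g g' v.1)

theorem smul_val {n : ℕ} (g : Cfsg.SU n F q) (v : Unit1 F q n) : (g • v).1 = act g v.1 := rfl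

/-- The step by the graph. -/
theorem mult_succ_graph (hF : Fintype.card F = q ^ 2) {m : ℕ} (hm : 6 ≤ m)
    (hp : commutator ↥(Cfsg.SU (m - 1) F q) = ⊤) (hpm : commutator ↥(Cfsg.SU m F q) = ⊤)
    (h1 : Cfsg.HasCyclicSchurMultiplier ↥(Cfsg.SU m F q) 1) :
    Cfsg.HasCyclicSchurMultiplier ↥(Cfsg.SU (m + 1) F q) 1 := by
  classical
  obtain ⟨C⟩ := AutPSU.exists_conj hF
  let eU : Fin (m + 1) → Unit1 F q (m + 1) := fun i => (⟨bv i, Phan.bv_unit C i⟩ : Unit1 F q (m + 1))
  let a := eU (Fin.last m)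
  let b := eU ⟨m - 1, by omega⟩
  let c := eU ⟨m - 2, by omega⟩
  let adj : Unit1 F q (m + 1) → Unit1 F q (m + 1) → Prop := fun x y => h (q := q) x.1 y.1 = 0
  have horth : ∀ i j, i ≠ j → adj (eU i) (eU j) := fun i j hij => Phan.bv_orth C hij
  have hi1 : (⟨m - 1, by omega⟩ : Fin (m + 1)) ≠ Fin.last m := by simp [Fin.ext_iff]; omega
  have hi2 : (⟨m - 1, by omega⟩ : Fin (m + 1)) ≠ ⟨m - 2, by omega⟩ := by simp [Fin.ext_iff]; omega
  have hi3 : (⟨m - 2, by omega⟩ : Fin (m + 1)) ≠ Fin.last m := by simp [Fin.ext_iff]; omega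
  have hirr : ∀ x, ¬ adj x x := fun x e => one_ne_zero (x.2.symm.trans e)
  have hsymm : ∀ x y, adj x y → adj y x := fun x y e => (AutPSU.eq_zero_comm C).1 e
  have hstab : ∀ g, g ∈ MulAction.stabilizer ↥(Cfsg.SU (m + 1) F q) a ↔
      g ∈ (E0 (F := F) (q := q) m).range := by
    intro g
    rw [MulAction.mem_stabilizer_iff]
    constructor
    · intro e
      obtain ⟨t, ht⟩ := emb_range (F := F) (q := q) 0 (show 0 + m ≤ m + 1 by omega) C g fun i hi => by
        obtain rfl : i = Fin.last m := Fin.ext (by simp; omega)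
        exact congrArg Subtype.val e
      exact ⟨t, ht⟩
    · rintro ⟨t, rfl⟩
      exact Subtype.ext (emb_fix 0 _ t (Or.inr (by simp)))
  have hstab2 : ∀ g, g ∈ MulAction.stabilizer ↥(Cfsg.SU (m + 1) F q) a ⊓ MulAction.stabilizer _ b ↔
      g ∈ (emb (F := F) (q := q) 0 (show 0 + (m - 1) ≤ m + 1 by omega)).range := by
    intro g
    constructor
    · intro e
      obtain ⟨ea, eb⟩ := Subgroup.mem_inf.1 e
      obtain ⟨t, ht⟩ := emb_range (F := F) (q := q) 0 (show 0 + (m - 1) ≤ m + 1 by omega) C g fun i hi => by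
        rcases (show (i : ℕ) = m ∨ (i : ℕ) = m - 1 by omega) with hv | hv
        · obtain rfl : i = Fin.last m := Fin.ext (by simp [hv])
          exact (congrArg Subtype.val ea :)
        · rw [show i = ⟨m - 1, by omega⟩ from Fin.ext hv]
          exact (congrArg Subtype.val eb :)
      exact ⟨t, ht⟩
    · rintro ⟨t, rfl⟩
      exact Subgroup.mem_inf.2 ⟨MulAction.mem_stabilizer_iff.2 (Subtype.ext (emb_fix 0 _ t (Or.inr (by simp)))),
        MulAction.mem_stabilizer_iff.2 (Subtype.ext (emb_fix 0 _ t (Or.inr (by simp))))⟩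
  have hperfR : ∀ {k : ℕ} (j : Cfsg.SU k F q →* Cfsg.SU (m + 1) F q), commutator ↥(Cfsg.SU k F q) = ⊤ →
      ⁅j.range, j.range⁆ = j.range := fun j hj => by
    rw [MonoidHom.range_eq_map, ← Subgroup.map_commutator, ← commutator_def, hj]
  have hH : MulAction.stabilizer ↥(Cfsg.SU (m + 1) F q) a = (E0 (F := F) (q := q) m).range :=
    Subgroup.ext hstab
  have hT : MulAction.stabilizer ↥(Cfsg.SU (m + 1) F q) a ⊓ MulAction.stabilizer _ b =
      (emb (F := F) (q := q) 0 (show 0 + (m - 1) ≤ m + 1 by omega)).range := Subgroup.ext hstab2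
  obtain ⟨u, hu⟩ : ∃ u, adj a u := ⟨b, hsymm _ _ (horth _ _ hi1)⟩
  have perp : ∀ x0 x1 x2 x3 : Unit1 F q (m + 1), adj x0 x1 →
      ∃ v, adj v x0 ∧ adj v x1 ∧ adj v x2 ∧ adj v x3 := fun x0 x1 x2 x3 e => by
    obtain ⟨v, hv, hv'⟩ := exists_perp_four C (by omega : 7 ≤ m + 1) ![x0.1, x1.1, x2.1, x3.1] x0.2 x1.2 e
    exact ⟨⟨v, hv⟩, hv' 0, hv' 1, hv' 2, hv' 3⟩
  let d : Unit1 F q (m + 1) → ℕ := fun x => if x = a then 0 else if adj x a then 1 else 2
  have hd0 : ∀ x, d x = 0 ↔ x = a := fun x => by simp only [d]; split_ifs <;> simp_all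
  have hd1 : ∀ x, adj x a → d x = 1 := fun x e => by
    have : x ≠ a := fun e' => hirr a (e' ▸ e)
    simp [d, this, e]
  have hd2 : ∀ x, d x ≤ 2 := fun x => by simp only [d]; split_ifs <;> omega
  have hcases : ∀ x, x = a ∨ (adj x a ∧ d x = 1) ∨ (x ≠ a ∧ ¬ adj x a ∧ d x = 2) := fun x => by
    by_cases e : x = a
    · exact Or.inl e
    by_cases e' : adj x a
    · exact Or.inr (Or.inl ⟨e', hd1 x e'⟩)
    · exact Or.inr (Or.inr ⟨e, e', by simp [d, e, e']⟩)
  have hL : Co1Mult.Layered adj d a 2 := by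
    refine ⟨hirr, fun x => (hd0 x).1, hd2, fun x y e => ?_, fun x hx => ?_, fun x p p' hp' hp'' => ?_,
      fun x y e exy => ?_⟩
    · rcases hcases x with rfl | ⟨-, hx⟩ | ⟨-, -, hx⟩
      · rw [hd1 y (hsymm _ _ e)]; omega
      · have := hd2 y; omega
      · have := hd2 y; omega
    · rcases hcases x with rfl | ⟨hxa, hx'⟩ | ⟨-, -, hx'⟩
      · exact absurd ((hd0 a).2 rfl) hx
      · exact ⟨a, hxa, by rw [hx', (hd0 a).2 rfl]⟩
      · obtain ⟨v, hv0, -, hv2, -⟩ := perp a u x x hu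
        exact ⟨v, hsymm _ _ hv2, by rw [hx', hd1 v hv0]⟩
    · rcases hcases x with rfl | ⟨-, hx⟩ | ⟨-, -, hx⟩
      · have := hp'.2; rw [(hd0 a).2 rfl] at this; omega
      · have e1 := hp'.2
        have e2 := hp''.2
        rw [hx] at e1 e2
        rw [(hd0 p).1 (by omega), (hd0 p').1 (by omega)]
      · have hpa : ∀ w, Co1Mult.Down adj d x w → adj w a := fun w hw => by
          have := hw.2
          rcases hcases w with rfl | ⟨e', -⟩ | ⟨-, -, hw'⟩
          · rw [(hd0 a).2 rfl, hx] at this; omega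
          · exact e'
          · omega
        obtain ⟨v, hv0, hv1, hv2, hv3⟩ := perp a p x p' (hsymm _ _ (hpa p hp'))
        exact Relation.ReflTransGen.head ⟨hsymm _ _ hv1, hsymm _ _ hv2, by rw [hx, hd1 v hv0]⟩
          (Relation.ReflTransGen.single ⟨hv3, hp''⟩)
    · rcases hcases x with rfl | ⟨hxa, hx⟩ | ⟨-, -, hx⟩
      · rw [(hd0 a).2 rfl] at exy
        exact absurd ((hd0 y).1 exy.symm ▸ e) (hirr a)
      · rcases hcases y with rfl | ⟨hya, -⟩ | ⟨-, -, hy⟩
        · rw [(hd0 a).2 rfl] at exy; omega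
        · exact Or.inl ⟨a, ⟨hxa, by rw [hx, (hd0 a).2 rfl]⟩, hya⟩
        · omega
      · obtain ⟨v, hv0, hv1, hv2, -⟩ := perp x y a a e
        exact Or.inl ⟨v, ⟨hsymm _ _ hv0, by rw [hx, hd1 v hv2]⟩, hsymm _ _ hv1⟩
  refine Schur.hasCyclicSchurMultiplier_one_of fun X _ ξ hs hc => ?_
  rw [eq_bot_iff]
  rintro z ⟨hz, hzc⟩
  have hkill : ∀ w ∈ ⁅(E0 (F := F) (q := q) m).range.comap ξ, (E0 (F := F) (q := q) m).range.comap ξ⁆,
      ξ w = 1 → w = 1 := by
    intro w hw e
    rw [← Subgroup.map_subtype_commutator] at hw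
    obtain ⟨w', hw', rfl⟩ := hw
    exact Schur.eq_one_of_trivial _ (Schur.hasCyclicSchurMultiplier_of_mulEquiv
      (MonoidHom.ofInjective (Phan.emb_injective (F := F) (q := q) 0 (show 0 + m ≤ m + 1 by omega))) h1)
      ξ hs hc _ e w'.2 hw'
  refine Subgroup.mem_bot.2 (Co2Mult.engine (adj := adj) hsymm ?_ (a := a) (b := b) (c := c)
    (hsymm _ _ (horth _ _ hi1)) (horth _ _ hi2) (horth _ _ hi3) ?_ (by rw [hH]; exact hperfR _ hpm)
    (by rw [hT]; exact hperfR _ hp) ?_ ?_ hL ξ hs hc (fun w hw hw' => hkill w (by rwa [hH] at hw') hw) hz hzc)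
  · intro g x y e
    exact (act_pres g x.1 y.1).trans e
  · intro x
    obtain ⟨s, hs'⟩ := Phan.exists_map_one C hF (by omega) (Phan.bv_unit C (Fin.last m)) x.2
    exact ⟨s, Subtype.ext hs'⟩
  · intro x y x' y' e e'
    obtain ⟨s, hsx, hsy⟩ := Phan.exists_map_two C hF (by omega) x.2 y.2 e x'.2 y'.2 e'
    exact ⟨s, Subtype.ext hsx, Subtype.ext hsy⟩
  · intro x y w x' y' w' e1 e2 e3 e1' e2' e3'
    have hon : ∀ {x y w : Unit1 F q (m + 1)}, adj x y → adj y w → adj w x →
        Phan.ON (q := q) ![x.1, y.1, w.1] := fun {x y w} k1 k2 k3 i j => by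
      have k1' := hsymm _ _ k1
      have k2' := hsymm _ _ k2
      have k3' := hsymm _ _ k3
      fin_cases i <;> fin_cases j <;> simp [x.2, y.2, w.2] <;> assumption
    obtain ⟨s, hs'⟩ := Phan.exists_su C (by omega : 3 < m + 1) (hon e1 e2 e3) (hon e1' e2' e3')
    exact ⟨s, Subtype.ext (hs' 0), Subtype.ext (hs' 1), Subtype.ext (hs' 2)⟩

end Cfsg.Agent.PSUMult
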