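import Cfsg.Agent.Lib.PSUMult.Small
import Cfsg.Agent.Lib.PSUMult.Step

/-!
# Trivial multiplier of the special unitary groups
-/

set_option autoImplicit false

namespace Cfsg.Agent.PSUMult

universe u

/-- The centre of `SU n` is cyclic. -/
theorem center_cyclic {F : Type u} [Field F] [Fintype F] {q : ℕ} (hF : Fintype.card F = q ^ 2) {n : ℕ}
    (hn : 2 ≤ n) : IsCyclic ↥(Subgroup.center ↥(Cfsg.SU n F q)) := by
  classical
  haveI : NeZero n := ⟨by omega⟩
  obtain ⟨σ, hσ, hne, hinv, hfix, -⟩ := HermStd.exists_sigma hF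
  have hsc : ∀ A : ↥(Subgroup.center ↥(Cfsg.SU n F q)), ∃ c : F, A.1.1.1 = Matrix.diagonal fun _ => c :=
    fun A => HermSU.scalar_of_commute hne hinv hσ hn hfix A.1.1.1 fun B hB =>
      congrArg (fun X : Cfsg.SU n F q => X.1.1) (Subgroup.mem_center_iff.1 A.2 ⟨B, hB⟩).symm
  let f : ↥(Subgroup.center ↥(Cfsg.SU n F q)) →* F :=
    { toFun := fun A => A.1.1.1 0 0
      map_one' := by simp
      map_mul' := fun A B => by
        obtain ⟨a, ha⟩ := hsc A
        obtain ⟨b, hb⟩ := hsc B
        show (A.1.1.1 * B.1.1.1) 0 0 = A.1.1.1 0 0 * B.1.1.1 0 0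
        rw [ha, hb, Matrix.diagonal_mul_diagonal]; simp }
  refine isCyclic_of_subgroup_isDomain f fun A B e => ?_
  obtain ⟨a, ha⟩ := hsc A
  obtain ⟨b, hb⟩ := hsc B
  have e' : A.1.1.1 0 0 = B.1.1.1 0 0 := e
  rw [ha, hb, Matrix.diagonal_apply_eq, Matrix.diagonal_apply_eq] at e'
  exact Subtype.ext (Subtype.ext (Subtype.ext (by rw [ha, hb, e'])))

theorem mult_su {F : Type u} [Field F] [Fintype F] {q : ℕ} (hF : Fintype.card F = q ^ 2) {n : ℕ} (hn : 3 ≤ n)
    (h3 : ¬ (n = 3 ∧ q = 2)) (hexc : (n, q) ∉ ({(4, 2), (4, 3), (6, 2)} : Set (ℕ × ℕ))) :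
    Cfsg.HasCyclicSchurMultiplier ↥(Cfsg.SU n F q) 1 := by
  have hq2 : 2 ≤ q := by
    obtain ⟨σ, -, -, -, -, h⟩ := HermStd.exists_sigma hF
    exact h
  simp only [Set.mem_insert_iff, Set.mem_singleton_iff, Prod.mk.injEq, not_or] at hexc
  rcases (show 4 ≤ q ∨ q = 3 ∨ q = 2 by omega) with hq | rfl | rfl
  · have : ∀ k, Cfsg.HasCyclicSchurMultiplier ↥(Cfsg.SU (3 + k) F q) 1 := by
      intro k
      induction k with
      | zero => exact mult_three hF (by omega)
      | succ k ih =>
        exact mult_succ hF (m := 3 + k) (by omega) (by omega) (Or.inl hq)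
          (perfect_su' hF (by omega) (fun _ => hq)) (perfect_su hF (by omega) (fun _ => by omega)) ih
    obtain ⟨k, rfl⟩ : ∃ k, n = 3 + k := ⟨n - 3, by omega⟩
    exact this k
  · by_cases h : n = 3
    · subst h; exact mult_three hF le_rfl
    have : ∀ k, Cfsg.HasCyclicSchurMultiplier ↥(Cfsg.SU (5 + k) F 3) 1 := by
      intro k
      induction k with
      | zero => exact mult_five_three hF
      | succ k ih =>
        exact mult_succ hF (m := 5 + k) (by omega) le_rfl (Or.inr (by omega))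
          (perfect_su hF (by omega) (fun h => by omega)) (perfect_su hF (by omega) (fun h => by omega)) ih
    obtain ⟨k, rfl⟩ : ∃ k, n = 5 + k := ⟨n - 5, by omega⟩
    exact this k
  · by_cases h : n = 5
    · subst h; exact mult_five_two hF
    have : ∀ k, Cfsg.HasCyclicSchurMultiplier ↥(Cfsg.SU (7 + k) F 2) 1 := by
      intro k
      induction k with
      | zero => exact mult_seven_two hF
      | succ k ih =>
        exact mult_succ_graph hF (m := 7 + k) (by omega)
          (perfect_su hF (by omega) (fun h => by omega)) (perfect_su hF (by omega) (fun h => by omega)) ih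
    obtain ⟨k, rfl⟩ : ∃ k, n = 7 + k := ⟨n - 7, by omega⟩
    exact this k

end Cfsg.Agent.PSUMult
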