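import Cfsg.Agent.Lib.PSUMult.Setup
import Cfsg.Agent.Lib.UnitaryMinIndex.Data

/-!
# The radical of an isotropic point in coordinates

Elements `e v l` of `SU (m + 2)`, one for each `v` in the first `m` coordinates and each admissible `l`,
and torus elements normalising them.
-/

set_option autoImplicit false
set_option linter.unusedSectionVars false
set_option linter.style.show false

namespace Cfsg.Agent.PSUMult

open Matrix
open Cfsg.Agent.AutPSU (Conj h act act_mul ext_act)
open Cfsg.Agent.Phan (emb blk)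
open Cfsg.Agent.Transvec (mv)

universe u

variable {F : Type u} [Field F] [Fintype F] {q : ℕ}

/-- The block of the first `m` coordinates. -/
abbrev inc (m : ℕ) : ↥(Cfsg.SU m F q) →* ↥(Cfsg.SU (m + 2) F q) := emb 0 (by omega)

/-- The scalar parameter `l` belongs to the vector `v`. -/
def Adm (C : Conj F q) {m : ℕ} (v : Fin m → F) (l : F) : Prop := l + C.σ l + h (q := q) v v = 0

/-- The unipotent radical with its torus. -/
structure Rad (C : Conj F q) (m : ℕ) where
  e : (Fin m → F) → F → ↥(Cfsg.SU (m + 2) F q)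
  mul : ∀ {v l v' l'}, Adm C v l → Adm C v' l' → e v l * e v' l' = e (v + v') (l + l' - h (q := q) v' v)
  inj : ∀ {v l v' l'}, Adm C v l → Adm C v' l' → e v l = e v' l' → v = v' ∧ l = l'
  conj : ∀ (g : ↥(Cfsg.SU m F q)) {v l}, Adm C v l → inc m g * e v l * (inc m g)⁻¹ = e (act g v) l
  meet : ∀ {v l} (g : ↥(Cfsg.SU m F q)), Adm C v l → e v l = inc m g → v = 0 ∧ l = 0
  tor : ∀ (a : F) (d : Fin m → F), a ≠ 0 → (∀ i, d i * C.σ (d i) = 1) → a * (C.σ a)⁻¹ * ∏ i, d i = 1 →
    ∃ t, (∀ {v l}, Adm C v l → t * e v l * t⁻¹ = e (fun i => C.σ a * d i * v i) (a * C.σ a * l)) ∧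
      ∀ g : ↥(Cfsg.SU m F q), (∀ v, act g (fun i => d i * v i) = fun i => d i * act g v i) →
        t * inc m g = inc m g * t

theorem exists_rad (C : Conj F q) (hF : Fintype.card F = q ^ 2) (m : ℕ) : Nonempty (Rad C m) := by
  classical
  obtain ⟨σ, hσ, hf, -⟩ := UnitaryStd.exists_setup (n := m + 2) hF (by omega)
  obtain rfl : σ = C.σ := RingEquiv.ext fun x => by rw [hσ, C.apply_eq]
  set f := Cfsg.hermForm (m + 2) F q with hfdef
  set i0 : Fin (m + 2) := Fin.natAdd m 0
  set i1 : Fin (m + 2) := Fin.natAdd m 1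
  let b : Fin (m + 2) → (Fin (m + 2) → F) := fun i => Pi.single i 1
  have hbl : ∀ i z, f z (b i) = z i := fun i z => Phan.h_bv_right C z i
  have hbr : ∀ i z, f (b i) z = C.σ (z i) := fun i z => Phan.h_bv_left C z i
  have h01 : i0 ≠ i1 := by simp [i0, i1]
  obtain ⟨θ, hθ⟩ := AutPSU.exists_norm C (x := (-1 : F)) (by simp)
  obtain ⟨s, hs⟩ := AutPSU.conj_fixed C (x := (-1 : F)) (by simp)
  have hθ0 : θ ≠ 0 := fun e => by simp [e] at hθ
  set x := b i0 + θ • b i1 with hx
  set y := b i0 + s • x with hy
  have hxb0 : f x (b i0) = 1 := by simp [hx, hbl, b, h01]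
  have hb0x : f (b i0) x = 1 := by simp [hx, hbr, b, h01]
  have hxx : f x x = 0 := by
    rw [hx, hf.add_left, hf.smul_left, hbr, hbr]
    simp [b, h01, h01.symm, hθ]
  have p : UMin.Pair f x y := ⟨hxx, by
    rw [hy]
    simp only [hf.add_left, Transvec.Herm.add_right hf, hf.smul_left, Transvec.Herm.smul_right hf, hxx, hxb0,
      hb0x, hbl]
    simp [b]
    linear_combination hs, by
    rw [hy, Transvec.Herm.add_right hf, Transvec.Herm.smul_right hf, hxx, hxb0, mul_zero, add_zero]⟩
  let lift : (Fin m → F) → (Fin (m + 2) → F) := fun v => Fin.append v 0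
  have hl0 : ∀ v, lift v i0 = 0 ∧ lift v i1 = 0 := fun v => by simp [lift, i0, i1, Fin.append_right]
  have hWz : ∀ z, f z (b i0) = 0 → f z (b i1) = 0 → z ∈ UMin.wSp hf x y := by
    intro z h0 h1
    have e0 : f (b i0) z = 0 := (Transvec.Herm.f_eq_zero_comm hf).1 h0
    have e1 : f (b i1) z = 0 := (Transvec.Herm.f_eq_zero_comm hf).1 h1
    rw [UMin.mem_wSp hf, hy, hx]
    simp only [hf.add_left, hf.smul_left, e0, e1]
    simp
  have hW : ∀ v, lift v ∈ UMin.wSp hf x y := fun v =>
    hWz _ (by rw [hbl]; exact (hl0 v).1) (by rw [hbl]; exact (hl0 v).2)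
  have hform : ∀ v v', f (lift v) (lift v') = h (q := q) v v' := fun v v' => by
    simp [hfdef, h, Cfsg.hermForm, lift, Fin.sum_univ_add]
  have hblk : ∀ a : Fin m, blk (n := m + 2) 0 (show 0 + m ≤ m + 2 by omega) (.inl a) = Fin.castAdd 2 a :=
    fun a => Fin.ext (by simp [blk])
  let toG : ↥(UnitarySimple.sug f) →* ↥(Cfsg.SU (m + 2) F q) :=
    (UnitaryStd.suEquiv (F := F) (q := q) (n := m + 2)).symm.toMonoidHom
  have htoG : Function.Injective toG :=
    (UnitaryStd.suEquiv (F := F) (q := q) (n := m + 2)).symm.injective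
  have hact : ∀ g z, act (toG g) z = mv (g : GL (Fin (m + 2)) F) z := fun _ _ => rfl
  let e : (Fin m → F) → F → ↥(Cfsg.SU (m + 2) F q) := fun v l =>
    if H : Adm C v l then toG ⟨UMin.qel hf x (lift v) l,
      UMin.qel_mem hf p.xx (p.left_x hf (hW v)) (by rw [hform]; exact H)⟩ else 1
  have he : ∀ v l, Adm C v l → ∀ z, act (e v l) z = mv (UMin.qel hf x (lift v) l) z := fun v l H z => by
    simp only [e, dif_pos H]; exact hact _ _
  have hadd : ∀ v v', lift (v + v') = lift v + lift v' := fun v v' => by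
    funext i; refine Fin.addCases (fun j => ?_) (fun j => ?_) i <;> simp [lift]
  have hAdd : ∀ {v : Fin m → F} {l : F} {v' : Fin m → F} {l' : F}, Adm C v l → Adm C v' l' → Adm C (v + v') (l + l' - h (q := q) v' v) := by
    intro v l v' l' H H'
    unfold Adm at *
    rw [map_sub, map_add, AutPSU.add_left C, AutPSU.add_right C, AutPSU.add_right C, AutPSU.symm C v' v]
    linear_combination H + H'
  have hinc : ∀ (g : ↥(Cfsg.SU m F q)) z (j : Fin m),
      act (inc m g) z (Fin.castAdd 2 j) = act g (fun a => z (Fin.castAdd 2 a)) j := fun g z j => by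
    rw [Phan.emb_act, Function.comp_apply, ← hblk j, Equiv.symm_apply_apply, Sum.elim_inl]
    simp only [hblk]
  have hincR : ∀ (g : ↥(Cfsg.SU m F q)) z (j : Fin 2),
      act (inc m g) z (Fin.natAdd m j) = z (Fin.natAdd m j) := fun g z j => by
    obtain ⟨c | c, hc⟩ := (blk (n := m + 2) 0 (show 0 + m ≤ m + 2 by omega)).surjective (Fin.natAdd m j)
    · rw [hblk] at hc
      have := congrArg Fin.val hc
      simp at this
      omega
    · rw [Phan.emb_act, Function.comp_apply, ← hc, Equiv.symm_apply_apply, Sum.elim_inr]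
  have hfx : ∀ g : ↥(Cfsg.SU m F q), act (inc m g) x = x ∧ act (inc m g) y = y := fun g => by
    have hb : ∀ j : Fin 2, act (inc m g) (b (Fin.natAdd m j)) = b (Fin.natAdd m j) := fun j =>
      Phan.emb_fix 0 _ g (Or.inr (by simp))
    have hxg : act (inc m g) x = x := by rw [hx, AutPSU.act_add, AutPSU.act_smul, hb, hb]
    exact ⟨hxg, by rw [hy, AutPSU.act_add, AutPSU.act_smul, hxg, hb]⟩
  have hlev : ∀ g : ↥(Cfsg.SU m F q), SpecialLinearGroup.toGL (inc m g).1 ∈ UMin.lev f x y := fun g =>
    UMin.mem_lev.2 ⟨UnitaryStd.toGL_mem _, (hfx g).1, (hfx g).2⟩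
  refine ⟨{ e := e, mul := ?_, inj := ?_, conj := ?_, meet := ?_, tor := ?_ }⟩
  · intro v l v' l' H H'
    refine ext_act fun z => ?_
    rw [act_mul, he _ _ H, he _ _ H', he _ _ (hAdd H H'), ← Transvec.mv_mul,
      UMin.qel_mul hf p.xx (p.left_x hf (hW v)) (p.left_x hf (hW v')), hadd, hform]
  · intro v l v' l' H H' hee
    simp only [e, dif_pos H, dif_pos H'] at hee
    obtain ⟨h1, h2⟩ := UMin.qel_inj hf p (hW v) (hW v') (congrArg Subtype.val (htoG hee) :)
    exact ⟨funext fun i => by simpa [lift] using congrFun h1 (Fin.castAdd 2 i), h2⟩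
  · intro g v l H
    have H' : Adm C (act g v) l := by unfold Adm; rw [AutPSU.act_pres]; exact H
    have hlift : mv (SpecialLinearGroup.toGL (inc m g).1) (lift v) = lift (act g v) := by
      funext i
      refine Fin.addCases (fun j => ?_) (fun j => ?_) i
      · show act (inc m g) (lift v) _ = _
        rw [hinc]; simp [lift]
      · show act (inc m g) (lift v) _ = _
        rw [hincR]; simp [lift]
    have key := UMin.lev_conj hf p (hlev g) (hW v) l
    rw [hlift] at key
    rw [mul_inv_eq_iff_eq_mul]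
    refine ext_act fun z => ?_
    rw [act_mul, act_mul, he _ _ H, he _ _ H', ← key, Transvec.mv_mul, Transvec.mv_mul]
    show _ = mv _ (mv _ (mv _ (mv (SpecialLinearGroup.toGL (inc m g).1) z)))
    rw [← Transvec.mv_mul _⁻¹ (SpecialLinearGroup.toGL (inc m g).1), inv_mul_cancel, Transvec.mv_one]
    rfl
  · intro v l g H hee
    have h1 : mv (UMin.qel hf x (lift v) l) y = y := by rw [← he v l H, hee]; exact (hfx g).2
    rw [UMin.qel_y hf p (hW v)] at h1
    have h2 := congrArg (fun z => f z y) h1
    simp only [hf.add_left, hf.smul_left, p.yy, p.xy, p.left_y hf (hW v), mul_one, zero_add] at h2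
    rw [h2, zero_smul, add_zero, add_eq_left] at h1
    exact ⟨funext fun i => by simpa [lift] using congrFun h1 (Fin.castAdd 2 i), h2⟩
  · intro a d ha hd hdet
    let d' : Fin (m + 2) → F := Fin.append d 1
    have hd'n : ∀ i, d' i * C.σ (d' i) = 1 := fun i =>
      Fin.addCases (fun j => by simp [d', hd j]) (fun j => by simp [d']) i
    let D : GL (Fin (m + 2)) F := GeneralLinearGroup.mkOfDetNeZero (Matrix.diagonal d')
      (by rw [Matrix.det_diagonal]; exact Finset.prod_ne_zero_iff.2 fun i _ => fun e0 => by simpa [e0] using hd'n i)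
    have hD : ∀ z, mv D z = fun i => d' i * z i := fun z => funext fun i => Matrix.mulVec_diagonal d' z i
    have hDiso : ∀ u v, f (mv D u) (mv D v) = f u v := fun u v => by
      simp only [hfdef, hD, Cfsg.hermForm]
      refine Finset.sum_congr rfl fun i _ => ?_
      rw [mul_pow, ← C.apply_eq (d' i)]
      linear_combination (u i * v i ^ q) * hd'n i
    have hDx : mv D x = x ∧ mv D y = y := by
      have hb : ∀ j : Fin 2, mv D (b (Fin.natAdd m j)) = b (Fin.natAdd m j) := fun j => by
        rw [hD]; funext i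
        refine Fin.addCases (fun k => ?_) (fun k => ?_) i
        · have hne : Fin.castAdd 2 k ≠ Fin.natAdd m j := fun e0 => by
            have := congrArg Fin.val e0; simp at this; omega
          simp [b, Pi.single_eq_of_ne hne]
        · simp [d']
      have hxd : mv D x = x := by rw [hx, Transvec.mv_add, Transvec.mv_smul, hb, hb]
      exact ⟨hxd, by rw [hy, Transvec.mv_add, Transvec.mv_smul, hxd, hb]⟩
    let T := UMin.tor hf x y a * D
    have hT : T ∈ UnitarySimple.sug f := UMin.mem_sug.2 ⟨fun u v => by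
      rw [Transvec.mv_mul, Transvec.mv_mul, UMin.tor_isom hf p.xx p.yy p.xy ha, hDiso], by
      rw [UMin.det_mul', UMin.det_tor hf p.xx p.yy p.xy ha,
        show (D : Matrix (Fin (m + 2)) (Fin (m + 2)) F) = Matrix.diagonal d' from rfl, Matrix.det_diagonal,
        Fin.prod_univ_add]
      simpa [d'] using hdet⟩
    refine ⟨toG ⟨T, hT⟩, ?_, ?_⟩
    · intro v l H
      set v2 := fun i => C.σ a * d i * v i
      have H' : Adm C v2 (a * C.σ a * l) := by
        unfold Adm at *
        have e2 : h (q := q) v2 v2 = a * C.σ a * h (q := q) v v := by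
          simp only [h, Cfsg.hermForm, Finset.mul_sum, v2, ← C.apply_eq, map_mul, C.invol]
          exact Finset.sum_congr rfl fun i _ => by linear_combination (a * C.σ a * v i * C.σ (v i)) * hd i
        rw [e2, map_mul, map_mul, C.invol]
        linear_combination a * C.σ a * H
      have hTx : mv T x = a • x := by
        rw [Transvec.mv_mul, hDx.1, UMin.tor_fst hf p.xx p.yy p.xy ha]
      have hDW : mv D (lift v) = lift (fun i => d i * v i) := by
        rw [hD]; funext i
        refine Fin.addCases (fun k => ?_) (fun k => ?_) i <;> simp [d', lift]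
      have hTv : mv T (lift v) = lift (fun i => d i * v i) := by
        rw [Transvec.mv_mul, hDW, UMin.tor_fix hf p.xx p.yy p.xy ha (p.left_x hf (hW _)) (p.left_y hf (hW _))]
      have key : T * UMin.qel hf x (lift v) l * T⁻¹ = UMin.qel hf x (lift v2) (a * C.σ a * l) := by
        rw [UMin.qel_conj hf p.xx hT (p.left_x hf (hW v)), hTx, hTv,
          UMin.qel_scale hf p.xx (p.left_x hf (hW _))]
        congr 1
        funext i
        refine Fin.addCases (fun k => ?_) (fun k => ?_) i <;> simp [lift, v2, mul_assoc]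
      simp only [e, dif_pos H, dif_pos H', ← map_inv, ← map_mul]
      exact congrArg toG (Subtype.ext key)
    · intro g hg
      refine ext_act fun z => ?_
      rw [act_mul, act_mul, hact]
      have hc : ∀ w, mv D (act (inc m g) w) = act (inc m g) (mv D w) := fun w => by
        rw [hD, hD]; funext i
        refine Fin.addCases (fun k => ?_) (fun k => ?_) i
        · rw [hinc, hinc]
          simp only [d', Fin.append_left]
          exact (congrFun (hg _) k).symm
        · rw [hincR, hincR]
      show mv (UMin.tor hf x y a * D) _ = act (inc m g) (mv (UMin.tor hf x y a * D) z)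
      rw [Transvec.mv_mul, Transvec.mv_mul, hc, UMin.mv_tor hf p.xx p.yy p.xy ha,
        UMin.mv_tor hf p.xx p.yy p.xy ha, AutPSU.act_add, AutPSU.act_add, AutPSU.act_smul, AutPSU.act_smul,
        (hfx g).1, (hfx g).2]
      have e1 : ∀ w, f (act (inc m g) w) y = f w y := fun w => by
        conv_lhs => rw [← (hfx g).2]
        exact AutPSU.act_pres _ _ _
      have e2 : ∀ w, f (act (inc m g) w) x = f w x := fun w => by
        conv_lhs => rw [← (hfx g).1]
        exact AutPSU.act_pres _ _ _
      rw [e1, e2]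

end Cfsg.Agent.PSUMult
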