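import Cfsg.Agent.Lib.PSUMult.Model
import Cfsg.Agent.Lib.Schur.SylowKill

/-!
# The derived group of a lifted radical meets the kernel trivially

One dimension in the middle: the commutator form differs from an equivariant section by an invariant
biadditive map, which vanishes.  More dimensions over a prime field: the cross terms vanish and the
diagonal terms coincide.
-/

set_option autoImplicit false
set_option linter.unusedSectionVars false
set_option linter.style.haveILetI false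
set_option linter.style.show false

namespace Cfsg.Agent.PSUMult

open scoped commutatorElement
open Matrix
open Cfsg.Agent.AutPSU (Conj h act act_mul act_one ext_act)
open Cfsg.Agent.Phan (bv)

universe u

/-- The extension of a radical by a group with a commuting automorphism without fixed points on the
abelianised radical. -/
theorem kills_sup {G : Type u} [Group G] {r : ℕ} {Q P0 : Subgroup G}
    (hN : P0 ≤ Subgroup.normalizer (Q : Set G)) (hQP : Q ⊓ P0 = ⊥) {τ : G}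
    (hτP : ∀ p ∈ P0, τ * p = p * τ) (hτQ : ∀ a ∈ Q, τ * a * τ⁻¹ ∈ Q)
    (hinj : ∀ a ∈ Q, ⁅τ, a⁆ ∈ ⁅Q, Q⁆ → a ∈ ⁅Q, Q⁆)
    (hsurj : ∀ a ∈ Q, ∃ b ∈ Q, ⁅τ, b⁆⁻¹ * a ∈ ⁅Q, Q⁆)
    (hQ : Kills r Q) (hP : Kills r P0) : Kills r (Q ⊔ P0) := by
  intro X _ ξ E z hz ez
  set Q0 := Q.comap ξ with hQ0
  set P := P0.comap ξ
  set D := ⁅Q0, Q0⁆ with hD
  obtain ⟨T, hT⟩ := E.surj τ
  have hDQ : D ≤ Q0 := Subgroup.commutator_le_self _
  have hcen := fun {k : X} (e : ξ k = 1) (x : X) => central_comm E.central e x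
  have hconj : ∀ g : X, (∀ a ∈ Q0, g * a * g⁻¹ ∈ Q0) → ∀ d ∈ D, g * d * g⁻¹ ∈ D := by
    intro g hg d hd
    have h1 : ⁅Q0, Q0⁆.map (MulAut.conj g).toMonoidHom ≤ ⁅Q0, Q0⁆ := by
      rw [Subgroup.map_commutator]
      exact Subgroup.commutator_mono (Subgroup.map_le_iff_le_comap.2 fun a ha => hg a ha)
        (Subgroup.map_le_iff_le_comap.2 fun a ha => hg a ha)
    exact h1 (Subgroup.mem_map_of_mem _ hd)
  have hQQ : ∀ g ∈ Q0, ∀ a ∈ Q0, g * a * g⁻¹ ∈ Q0 := fun g hg a ha => mul_mem (mul_mem hg ha) (inv_mem hg)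
  have hTQ : ∀ a ∈ Q0, T * a * T⁻¹ ∈ Q0 := fun a ha => by
    show ξ _ ∈ Q
    rw [map_mul, map_mul, map_inv, hT]
    exact hτQ _ ha
  have hPQ : ∀ p ∈ P, ∀ a ∈ Q0, p * a * p⁻¹ ∈ Q0 := fun p hp a ha => by
    show ξ _ ∈ Q
    rw [map_mul, map_mul, map_inv]
    exact (Subgroup.mem_normalizer_iff.1 (hN hp) _).1 ha
  have hTcm : ∀ a ∈ Q0, ⁅T, a⁆ ∈ Q0 := fun a ha => by
    rw [commutatorElement_def]; exact mul_mem (hTQ a ha) (inv_mem ha)
  have hmapD : D.map ξ = ⁅Q, Q⁆ := by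
    rw [hD, hQ0, Subgroup.map_commutator, Subgroup.map_comap_eq_self_of_surjective E.surj]
  let N0 : Subgroup X :=
    { carrier := {n | ∃ a ∈ Q0, ∃ d ∈ D, n = ⁅T, a⁆ * d}
      one_mem' := ⟨1, one_mem _, 1, one_mem _, by simp⟩
      mul_mem' := by
        rintro _ _ ⟨a, ha, d, hd, rfl⟩ ⟨b, hb, d', hd', rfl⟩
        refine ⟨a * b, mul_mem ha hb, ⁅a, ⁅T, b⁆⁻¹⁆ * (⁅T, b⁆⁻¹ * d * ⁅T, b⁆⁻¹⁻¹) * d', ?_, ?_⟩
        · exact mul_mem (mul_mem (Subgroup.commutator_mem_commutator ha (inv_mem (hTcm b hb)))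
            (hconj _ (hQQ _ (inv_mem (hTcm b hb))) d hd)) hd'
        · simp only [commutatorElement_def]; group
      inv_mem' := by
        rintro _ ⟨a, ha, d, hd, rfl⟩
        refine ⟨a⁻¹, inv_mem ha, ⁅a⁻¹, ⁅T, a⁆⁆ * (⁅T, a⁆ * d⁻¹ * ⁅T, a⁆⁻¹), ?_, ?_⟩
        · exact mul_mem (Subgroup.commutator_mem_commutator (inv_mem ha) (hTcm a ha))
            (hconj _ (hQQ _ (hTcm a ha)) _ (inv_mem hd))
        · simp only [commutatorElement_def]; group }
  have hDN : ∀ d ∈ D, d ∈ N0 := fun d hd => ⟨1, one_mem _, d, hd, by simp⟩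
  have hNQ : ∀ n ∈ N0, n ∈ Q0 := by
    rintro _ ⟨a, ha, d, hd, rfl⟩
    exact mul_mem (hTcm a ha) (hDQ hd)
  have hNone : ∀ n ∈ N0, ξ n = 1 → n = 1 := by
    rintro _ ⟨a, ha, d, hd, rfl⟩ e
    have h1 : ⁅τ, ξ a⁆ ∈ ⁅Q, Q⁆ := by
      rw [← hmapD, show ⁅τ, ξ a⁆ = ξ d⁻¹ by
        rw [map_inv, ← hT, ← map_commutatorElement]; exact eq_inv_of_mul_eq_one_left (by rw [← map_mul]; exact e)]
      exact Subgroup.mem_map_of_mem _ (inv_mem hd)
    have h2 := hinj _ ha h1
    rw [← hmapD] at h2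
    obtain ⟨d', hd', e'⟩ := h2
    have h3 : ⁅T, a⁆ ∈ D := by
      rw [comm_congr E.central (a' := T) (b' := d') rfl e'.symm, commutatorElement_def]
      exact mul_mem (hconj T hTQ d' hd') (inv_mem hd')
    exact hQ X ξ E _ (mul_mem h3 hd) e
  have hNP : ∀ p ∈ P, ∀ n ∈ N0, p * n * p⁻¹ ∈ N0 := by
    rintro p hp _ ⟨a, ha, d, hd, rfl⟩
    refine ⟨p * a * p⁻¹, hPQ p hp a ha, p * d * p⁻¹, hconj p (hPQ p hp) d hd, ?_⟩
    rw [← conj_comm E.central (g := p) (a := T) (a' := T) (b := a) (b' := p * a * p⁻¹)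
      (by rw [hT, ← hτP (ξ p) hp, mul_inv_cancel_right]) (by simp)]
    group
  have hQN : ∀ a ∈ Q0, ∀ n ∈ N0, a * n * a⁻¹ ∈ N0 := fun a ha n hn => by
    rw [show a * n * a⁻¹ = ⁅a, n⁆ * n by simp only [commutatorElement_def]; group]
    exact mul_mem (hDN _ (Subgroup.commutator_mem_commutator ha (hNQ n hn))) hn
  have hPQc : ∀ p ∈ P, ∀ a ∈ Q0, ⁅p, a⁆ ∈ N0 := by
    intro p hp a ha
    obtain ⟨b, hb, hab⟩ := hsurj (ξ a) ha
    obtain ⟨b', rfl⟩ := E.surj b
    rw [← hmapD] at hab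
    obtain ⟨d, hd, e⟩ := hab
    have hn : ⁅T, b'⁆ * d ∈ N0 := ⟨b', hb, d, hd, rfl⟩
    rw [comm_congr E.central (a' := p) (b' := ⁅T, b'⁆ * d) rfl
      (by rw [map_mul, map_commutatorElement, hT, e, mul_inv_cancel_left]), commutatorElement_def]
    exact mul_mem (hNP p hp _ hn) (inv_mem hn)
  have hdec : ∀ x ∈ (Q ⊔ P0).comap ξ, ∃ a ∈ Q0, ∃ p ∈ P, x = a * p := by
    intro x hx
    have hx' : ξ x ∈ ((Q ⊔ P0 : Subgroup G) : Set G) := hx
    rw [Subgroup.coe_mul_of_right_le_normalizer_left _ _ hN] at hx'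
    obtain ⟨a, ha, p, hp, e⟩ := hx'
    obtain ⟨a', rfl⟩ := E.surj a
    refine ⟨a', ha, a'⁻¹ * x, ?_, by group⟩
    show ξ _ ∈ P0
    rw [map_mul, map_inv, ← e]
    simpa using hp
  have hPNrm : ⁅P, P⁆ ≤ Subgroup.normalizer (N0 : Set X) := by
    intro p hp
    have hp' := Subgroup.commutator_le_self _ hp
    exact Subgroup.mem_normalizer_iff.2 fun n => ⟨hNP p hp' n, fun h => by
      simpa [mul_assoc] using hNP p⁻¹ (inv_mem hp') _ h⟩
  have hle : ⁅(Q ⊔ P0).comap ξ, (Q ⊔ P0).comap ξ⁆ ≤ N0 ⊔ ⁅P, P⁆ := by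
    rw [Subgroup.commutator_le]
    intro x hx y hy
    obtain ⟨a, ha, p, hp, rfl⟩ := hdec x hx
    obtain ⟨b, hb, p', hp', rfl⟩ := hdec y hy
    have hc : ⁅p, p'⁆ ∈ P := Subgroup.commutator_le_self _ (Subgroup.commutator_mem_commutator hp hp')
    rw [show ⁅a * p, b * p'⁆ = (a * ⁅p, b⁆ * a⁻¹) * (a * (b * ⁅⁅p, p'⁆ * p', a⁻¹⁆ * b⁻¹) * a⁻¹) * ⁅a, b⁆ *
        (b * ⁅⁅p, p'⁆, b⁻¹⁆ * b⁻¹) * ⁅p, p'⁆ by simp only [commutatorElement_def]; group]
    refine mul_mem (Subgroup.mem_sup_left (mul_mem (mul_mem (mul_mem (hQN a ha _ (hPQc p hp b hb))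
      (hQN a ha _ (hQN b hb _ (hPQc _ (mul_mem hc hp') _ (inv_mem ha)))))
      (hDN _ (Subgroup.commutator_mem_commutator ha hb))) (hQN b hb _ (hPQc _ hc _ (inv_mem hb)))))
      (Subgroup.mem_sup_right (Subgroup.commutator_mem_commutator hp hp'))
  have hz' : z ∈ ((N0 ⊔ ⁅P, P⁆ : Subgroup X) : Set X) := hle hz
  rw [Subgroup.coe_mul_of_right_le_normalizer_left _ _ hPNrm] at hz'
  obtain ⟨n, hn, c, hc, rfl⟩ := hz'
  have hc1 : ξ c ∈ Q ⊓ P0 := by
    refine Subgroup.mem_inf.2 ⟨?_, (Subgroup.commutator_le_self P hc : c ∈ P)⟩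
    rw [eq_inv_of_mul_eq_one_right (show ξ n * ξ c = 1 by rw [← map_mul]; exact ez)]
    exact inv_mem (hNQ n hn)
  rw [hQP, Subgroup.mem_bot] at hc1
  obtain rfl := hP X ξ E c hc hc1
  show n * 1 = 1
  rw [mul_one]
  exact hNone n hn (by simpa using ez)

variable {F : Type u} [Field F] [Fintype F] {q m : ℕ} {C : Conj F q} (R : Rad C m)

/-! ### The radical -/

omit [Fintype F] in
theorem adm_zero {c : F} (hc : C.σ c = -c) : Adm C (0 : Fin m → F) c := by
  unfold Adm; rw [hc, AutPSU.zero_left C]; ring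

omit [Fintype F] in
theorem adm_add {v v' : Fin m → F} {l l' : F} (H : Adm C v l) (H' : Adm C v' l') :
    Adm C (v + v') (l + l' - h (q := q) v' v) := by
  unfold Adm at *
  rw [map_sub, map_add, AutPSU.add_left C, AutPSU.add_right C, AutPSU.add_right C, AutPSU.symm C v' v]
  linear_combination H + H'

theorem exists_adm (v : Fin m → F) : ∃ l, Adm C v l := by
  obtain ⟨l, hl⟩ := AutPSU.conj_fixed C (x := -h (q := q) v v) (by rw [map_neg, AutPSU.self_fixed C])
  exact ⟨l, by unfold Adm; linear_combination hl⟩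

namespace Rad

theorem e_zero : R.e 0 0 = 1 := by
  have h0 : Adm C (0 : Fin m → F) 0 := adm_zero (by simp)
  have e := R.mul h0 h0
  rw [add_zero, AutPSU.zero_left C, sub_zero, add_zero] at e
  exact mul_eq_left.1 e

theorem adm_neg {v : Fin m → F} {l : F} (H : Adm C v l) : Adm C (-v) (C.σ l) := by
  unfold Adm at *
  rw [C.invol, show h (q := q) (-v) (-v) = h (q := q) v v by
    rw [← neg_one_smul F v, AutPSU.smul_left C, AutPSU.smul_right C, map_neg, map_one]; ring]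
  linear_combination H

/-- The radical. -/
def Q : Subgroup ↥(Cfsg.SU (m + 2) F q) where
  carrier := {g | ∃ v l, Adm C v l ∧ g = R.e v l}
  one_mem' := ⟨0, 0, adm_zero (by simp), R.e_zero.symm⟩
  mul_mem' := by
    rintro _ _ ⟨v, l, H, rfl⟩ ⟨v', l', H', rfl⟩
    exact ⟨_, _, adm_add H H', R.mul H H'⟩
  inv_mem' := by
    rintro _ ⟨v, l, H, rfl⟩
    refine ⟨-v, C.σ l, adm_neg H, inv_eq_of_mul_eq_one_right ?_⟩
    rw [R.mul H (adm_neg H), add_neg_cancel, ← neg_one_smul F v, AutPSU.smul_left C]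
    have H1 : l + C.σ l + h (q := q) v v = 0 := H
    rw [show l + C.σ l - -1 * h (q := q) v v = 0 by linear_combination H1, R.e_zero]

theorem mem_Q {g : ↥(Cfsg.SU (m + 2) F q)} : g ∈ R.Q ↔ ∃ v l, Adm C v l ∧ g = R.e v l := Iff.rfl

theorem e_mem {v : Fin m → F} {l : F} (H : Adm C v l) : R.e v l ∈ R.Q := ⟨v, l, H, rfl⟩

theorem e_comm {v v' : Fin m → F} {l l' : F} (H : Adm C v l) (H' : Adm C v' l') :
    ⁅R.e v l, R.e v' l'⁆ = R.e 0 (h (q := q) v v' - h (q := q) v' v) := by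
  have Hc : Adm C (0 : Fin m → F) (h (q := q) v v' - h (q := q) v' v) :=
    adm_zero (by rw [map_sub, ← AutPSU.symm C, ← AutPSU.symm C]; ring)
  rw [commutatorElement_def, mul_inv_eq_iff_eq_mul, mul_inv_eq_iff_eq_mul, mul_assoc, R.mul H' H, R.mul H H',
    R.mul Hc (adm_add H' H), zero_add, AutPSU.zero_right C, add_comm v v']
  congr 1
  ring

theorem exists_bracket (hm : 0 < m) {c : F} (hc : C.σ c = -c) :
    ∃ v v' : Fin m → F, h (q := q) v v' - h (q := q) v' v = c := by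
  obtain ⟨k, hk⟩ := AutPSU.conj_fixed C (x := (-1 : F)) (by simp)
  refine ⟨bv ⟨0, hm⟩, (k * c) • bv ⟨0, hm⟩, ?_⟩
  rw [AutPSU.smul_left C, AutPSU.smul_right C, Phan.h_bv C, if_pos rfl, map_mul, hc]
  linear_combination (-c) * hk

theorem z_mem_comm (hm : 0 < m) {c : F} (hc : C.σ c = -c) : R.e 0 c ∈ ⁅R.Q, R.Q⁆ := by
  obtain ⟨v, v', e⟩ := exists_bracket (C := C) hm hc
  obtain ⟨l, H⟩ := exists_adm (C := C) v
  obtain ⟨l', H'⟩ := exists_adm (C := C) v'
  rw [← e, ← R.e_comm H H']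
  exact Subgroup.commutator_mem_commutator (R.e_mem H) (R.e_mem H')

theorem comm_le (hm : 0 < m) {v : Fin m → F} {l : F} (H : Adm C v l) :
    R.e v l ∈ ⁅R.Q, R.Q⁆ ↔ v = 0 := by
  constructor
  · intro hmem
    let S : Subgroup ↥(Cfsg.SU (m + 2) F q) :=
      { carrier := {g | ∃ c, C.σ c = -c ∧ g = R.e 0 c}
        one_mem' := ⟨0, by simp, R.e_zero.symm⟩
        mul_mem' := by
          rintro _ _ ⟨a, ha, rfl⟩ ⟨b, hb, rfl⟩
          refine ⟨a + b, by rw [map_add, ha, hb]; ring, ?_⟩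
          rw [R.mul (adm_zero ha) (adm_zero hb), add_zero, AutPSU.zero_left C, sub_zero]
        inv_mem' := by
          rintro _ ⟨a, ha, rfl⟩
          refine ⟨-a, by rw [map_neg, ha], inv_eq_of_mul_eq_one_right ?_⟩
          rw [R.mul (adm_zero ha) (adm_zero (by rw [map_neg, ha])), add_zero, AutPSU.zero_left C, sub_zero,
            add_neg_cancel, R.e_zero] }
    have hle : ⁅R.Q, R.Q⁆ ≤ S := by
      rw [Subgroup.commutator_le]
      rintro _ ⟨v, l, H, rfl⟩ _ ⟨v', l', H', rfl⟩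
      exact ⟨_, by rw [map_sub, ← AutPSU.symm C, ← AutPSU.symm C]; ring, R.e_comm H H'⟩
    obtain ⟨c, hc, e⟩ := hle hmem
    exact (R.inj H (adm_zero hc) e).1
  · rintro rfl
    refine R.z_mem_comm hm ?_
    have H1 : l + C.σ l + h (q := q) (0 : Fin m → F) 0 = 0 := H
    rw [AutPSU.zero_left C, add_zero] at H1
    linear_combination H1

/-! ### In an extension -/

section ext

variable {r : ℕ} {X : Type u} [Group X] {ξ : X →* ↥(Cfsg.SU (m + 2) F q)} (E : RExt r ξ)
include E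

/-- A torus element fixing the centre of the radical and without fixed points on the middle space
makes the preimage of the centre central. -/
theorem centre_comm (hr : r.Prime) (hm : 0 < m) {a : F} {d : Fin m → F} (ha : a * C.σ a = 1)
    (hd : ∀ i, d i * C.σ (d i) = 1) (hdet : a * (C.σ a)⁻¹ * ∏ i, d i = 1) (hfp : ∀ i, C.σ a * d i ≠ 1)
    {x y : X} {c : F} (hc : C.σ c = -c) (hx : ξ x = R.e 0 c) {v : Fin m → F} {l : F} (H : Adm C v l)
    (hy : ξ y = R.e v l) : ⁅x, y⁆ = 1 := by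
  have hxQ : ∀ g ∈ R.Q, g * ξ x = ξ x * g := by
    rintro _ ⟨w, k, Hw, rfl⟩
    rw [hx, R.mul Hw (adm_zero hc), R.mul (adm_zero hc) Hw, add_zero, zero_add, AutPSU.zero_left C,
      AutPSU.zero_right C, add_comm k c]
  obtain ⟨t, ht, -⟩ := R.tor a d (fun e => by simp [e] at ha) hd hdet
  obtain ⟨T, hT⟩ := E.surj t
  set v' : Fin m → F := fun i => v i / (C.σ a * d i - 1) with hv'
  obtain ⟨l', H'⟩ := exists_adm (C := C) v'
  obtain ⟨y', hy'⟩ := E.surj (R.e v' l')
  set w : Fin m → F := fun i => C.σ a * d i * v' i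
  have hw : v + v' = w := funext fun i => by
    have := sub_ne_zero.2 (hfp i)
    simp only [w, hv', Pi.add_apply]
    field_simp
    ring
  have Hsum := adm_add H H'
  rw [hw] at Hsum
  have e1 := ht (v := v') (l := l') H'
  rw [show a * C.σ a * l' = l' by rw [ha, one_mul]] at e1
  have Hw : Adm C w l' := by
    unfold Adm at *
    rw [show h (q := q) w w = h (q := q) v' v' by
      simp only [h, Cfsg.hermForm, w, ← C.apply_eq, map_mul, C.invol]
      exact Finset.sum_congr rfl fun i _ => by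
        linear_combination (v' i * C.σ (v' i)) * (hd i * (a * C.σ a) + ha)]
    exact H'
  set k := l' - (l + l' - h (q := q) v' v) with hk
  have hka : C.σ k = -k := by
    have h1 : l + l' - h (q := q) v' v + C.σ (l + l' - h (q := q) v' v) + h (q := q) w w = 0 := Hsum
    have h2 : l' + C.σ l' + h (q := q) w w = 0 := Hw
    rw [hk, map_sub]
    linear_combination h2 - h1
  obtain ⟨z, hz⟩ := E.surj (R.e 0 k)
  have hzx : ⁅z, x⁆ = 1 := comm_kill E hr (H := R.Q) hxQ (by rw [hz]; exact R.e_mem (adm_zero hka))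
    (e := 1) (fun e => hr.one_lt.ne' (Nat.dvd_one.1 e)) (by rw [pow_one, hz]; exact R.z_mem_comm hm hka)
  have hxz : ⁅x, z⁆ = 1 := by rw [← commutatorElement_inv, hzx, inv_one]
  have hTy : ξ (T * y' * T⁻¹) = ξ (z * (y * y')) := by
    rw [map_mul, map_mul, map_inv, hT, hy', e1, map_mul, map_mul, hz, hy, hy', R.mul H H']
    rw [R.mul (adm_zero hka) (adm_add H H'), zero_add, AutPSU.zero_right C, hw]
    congr 1
    rw [hk]; ring
  have hker : ξ ⁅x, y'⁆ = 1 := by
    rw [map_commutatorElement, commutatorElement_eq_one_iff_mul_comm]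
    exact (hxQ _ (by rw [hy']; exact R.e_mem H')).symm
  have hker2 : ξ ⁅x, y⁆ = 1 := by
    rw [map_commutatorElement, commutatorElement_eq_one_iff_mul_comm]
    exact (hxQ _ (by rw [hy]; exact R.e_mem H)).symm
  have h1 : ⁅x, z * (y * y')⁆ = ⁅x, y'⁆ := by
    rw [← comm_congr E.central (a := x) rfl hTy,
      ← conj_comm E.central (g := T) (a := x) (a' := x) (b := y') (b' := T * y' * T⁻¹) ?_ (by simp),
      ← central_comm E.central hker T, mul_inv_cancel_right]
    rw [hx, hT, ht (adm_zero hc), show a * C.σ a * c = c by rw [ha, one_mul]]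
    congr 1
    funext i; simp
  have hxy : ∀ b b' : X, ξ ⁅x, b'⁆ = 1 → ⁅x, b * b'⁆ = ⁅x, b⁆ * ⁅x, b'⁆ := fun b b' hb =>
    SylowKill.comm_mul_right (central_comm E.central hb b).symm
  rw [hxy z (y * y') (by rw [hxy y y' hker, map_mul, hker2, hker, one_mul]), hxz, one_mul,
    hxy y y' hker, mul_eq_right] at h1
  exact h1

end ext

/-- The centrality of the preimage of the centre. -/
def CentreComm (r : ℕ) : Prop :=
  ∀ (X : Type u) [Group X] (ξ : X →* ↥(Cfsg.SU (m + 2) F q)), RExt r ξ → ∀ (x y : X) (c : F), C.σ c = -c →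
    ξ x = R.e 0 c → ξ y ∈ R.Q → Commute x y

theorem centreComm {r : ℕ} (hr : r.Prime) (hm : 0 < m) {a : F} {d : Fin m → F} (ha : a * C.σ a = 1)
    (hd : ∀ i, d i * C.σ (d i) = 1) (hdet : a * (C.σ a)⁻¹ * ∏ i, d i = 1) (hfp : ∀ i, C.σ a * d i ≠ 1) :
    R.CentreComm r := by
  intro X _ ξ E x y c hc hx ⟨v, l, H, hy⟩
  exact commutatorElement_eq_one_iff_mul_comm.1 (R.centre_comm E hr hm ha hd hdet hfp hc hx H hy)

section form

variable {r : ℕ} {X : Type u} [Group X] {ξ : X →* ↥(Cfsg.SU (m + 2) F q)} (E : RExt r ξ)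
  (hZ : R.CentreComm r)
include E hZ

/-- The commutator of lifts depends only on the middle vectors. -/
theorem exists_gamma : ∃ γ : (Fin m → F) → (Fin m → F) → X,
    (∀ x y v l v' l', Adm C v l → Adm C v' l' → ξ x = R.e v l → ξ y = R.e v' l' → ⁅x, y⁆ = γ v v') ∧
    (∀ v v', ξ (γ v v') = R.e 0 (h (q := q) v v' - h (q := q) v' v)) ∧
    (∀ v v' w, γ (v + v') w = γ v' w * γ v w) ∧
    (∀ v w, γ w v = (γ v w)⁻¹) ∧
    (∀ x v v', ξ x ∈ R.Q → Commute (γ v v') x) := by
  choose l hl using exists_adm (C := C) (m := m)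
  choose L hL using fun v => E.surj (R.e v (l v))
  have hmem : ∀ v v' : Fin m → F, C.σ (h (q := q) v v' - h (q := q) v' v) = -(h (q := q) v v' - h (q := q) v' v) :=
    fun v v' => by rw [map_sub, ← AutPSU.symm C, ← AutPSU.symm C]; ring
  have hval : ∀ v v', ξ ⁅L v, L v'⁆ = R.e 0 (h (q := q) v v' - h (q := q) v' v) := fun v v' => by
    rw [map_commutatorElement, hL, hL, R.e_comm (hl v) (hl v')]
  have hcen : ∀ x v v', ξ x ∈ R.Q → Commute ⁅L v, L v'⁆ x := fun x v v' hx =>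
    hZ X ξ E _ x _ (hmem v v') (hval v v') hx
  have hindep : ∀ x v k y, Adm C v k → ξ x = R.e v k → ξ y ∈ R.Q → ⁅x, y⁆ = ⁅L v, y⁆ := by
    intro x v k y H hx hy
    have hc : C.σ (k - l v) = -(k - l v) := by
      have h1 : l v + C.σ (l v) + h (q := q) v v = 0 := hl v
      have h2 : k + C.σ k + h (q := q) v v = 0 := H
      rw [map_sub]
      linear_combination h2 - h1
    obtain ⟨z, hz⟩ := E.surj (R.e 0 (k - l v))
    rw [comm_congr E.central (a := x) (a' := L v * z) (b := y) (b' := y) (by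
      rw [hx, map_mul, hL, hz, R.mul (hl v) (adm_zero hc), add_zero, AutPSU.zero_left C]
      congr 1; ring) rfl]
    have hzy : ⁅z, y⁆ = 1 := commutatorElement_eq_one_iff_mul_comm.2 (hZ X ξ E z y _ hc hz hy)
    rw [comm_mul_left (by rw [hzy, one_mul, mul_one]), hzy, one_mul]
  have hgen : ∀ x y v k v' k', Adm C v k → Adm C v' k' → ξ x = R.e v k → ξ y = R.e v' k' →
      ⁅x, y⁆ = ⁅L v, L v'⁆ := by
    intro x y v k v' k' H H' hx hy
    rw [hindep x v k y H hx (by rw [hy]; exact R.e_mem H'), ← commutatorElement_inv,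
      hindep y v' k' (L v) H' hy (by rw [hL]; exact R.e_mem (hl v)), commutatorElement_inv]
  refine ⟨fun v v' => ⁅L v, L v'⁆, hgen, hval, fun v v' w => ?_,
    fun v w => (commutatorElement_inv _ _).symm, hcen⟩
  show ⁅L (v + v'), L w⁆ = _
  rw [← hgen (L v * L v') (L w) _ _ _ _ (adm_add (hl v) (hl v')) (hl w)
    (by rw [map_mul, hL, hL, R.mul (hl v) (hl v')]) (hL w)]
  exact comm_mul_left (hcen (L v) v' w (by rw [hL]; exact R.e_mem (hl v))).eq.symm

/-- The derived group of the preimage is generated by these commutators. -/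
theorem derived_le {γ : (Fin m → F) → (Fin m → F) → X}
    (hγ : ∀ x y v l v' l', Adm C v l → Adm C v' l' → ξ x = R.e v l → ξ y = R.e v' l' → ⁅x, y⁆ = γ v v')
    (S : Subgroup X) (hS : ∀ v v', γ v v' ∈ S) : ⁅R.Q.comap ξ, R.Q.comap ξ⁆ ≤ S := by
  rw [Subgroup.commutator_le]
  rintro x ⟨v, l, H, hx⟩ y ⟨v', l', H', hy⟩
  rw [hγ x y v l v' l' H H' hx hy]
  exact hS v v'

end form

/-- Several dimensions over a prime field. -/
theorem kills_many {p : ℕ} [Fact p.Prime] [CharP F p] (hF : Fintype.card F = p ^ 2) (hqp : q = p)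
    (hm : 3 ≤ m) (hZ : R.CentreComm p)
    (hmove : ∀ i j : Fin m, i ≠ j → ∃ g : ↥(Cfsg.SU m F q), act g (bv i) = bv j ∧
      ∃ n : ℕ, ¬ p ∣ n ∧ g ^ n = 1) : Kills p R.Q := by
  classical
  intro X _ ξ E z hz ez
  obtain ⟨γ, hγ, hval, hadd, hinv, hcen⟩ := R.exists_gamma E hZ
  obtain ⟨μ, hμ⟩ := C.ne_one
  have hself : ∀ v, γ v v = 1 := fun v => by
    obtain ⟨l, H⟩ := exists_adm (C := C) v
    obtain ⟨x, hx⟩ := E.surj (R.e v l)
    rw [← hγ x x v l v l H H hx hx, commutatorElement_self]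
  have hzero : ∀ w, γ 0 w = 1 := fun w => by
    have := hadd 0 0 w
    rwa [add_zero, eq_comm, mul_eq_left] at this
  have hnsmul : ∀ (n : ℕ) v w, γ (n • v) w = γ v w ^ n := by
    intro n v w
    induction n with
    | zero => rw [zero_smul, pow_zero, hzero]
    | succ n ih => rw [add_smul, one_smul, hadd, ih, pow_succ']
  have hbas : ∀ (i : Fin m) (a : F), h (q := q) (a • bv i) (a • bv i : Fin m → F) = a * C.σ a := fun i a => by
    rw [AutPSU.smul_left C, AutPSU.smul_right C, Phan.h_bv C, if_pos rfl, mul_one]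
  have hoff : ∀ (i k : Fin m) (a b : F), i ≠ k →
      h (q := q) (a • bv i) (b • bv k : Fin m → F) = 0 := fun i k a b e => by
    rw [AutPSU.smul_left C, AutPSU.smul_right C, Phan.h_bv C, if_neg e, mul_zero, mul_zero]
  -- the cross terms
  have hcross : ∀ (i k : Fin m) (a b : F), i ≠ k → γ (a • bv i) (b • bv k) = 1 := by
    intro i k a b hik
    obtain ⟨l, hli, hlk⟩ : ∃ l : Fin m, l ≠ i ∧ l ≠ k := by
      obtain ⟨l, hl⟩ := Finset.exists_mem_notMem_of_card_lt_card (s := {i, k}) (t := Finset.univ)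
        (by rw [Finset.card_univ, Fintype.card_fin]; exact Finset.card_le_two.trans_lt hm)
      simp only [Finset.mem_insert, Finset.mem_singleton, not_or] at hl
      exact ⟨l, hl.2⟩
    obtain ⟨c, hc, hc1⟩ := exists_norm_one_ne C (hqp ▸ hF)
    have hc0 : c ≠ 0 := fun e => by simp [e] at hc
    suffices hsuf : ∀ a, γ (((c - 1) * a) • bv i) (b • bv k) = 1 by
      have := hsuf (a / (c - 1))
      rwa [mul_div_cancel₀ _ (sub_ne_zero.2 hc1)] at this
    clear a
    intro a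
    set d : Fin m → F := Function.update (Function.update 1 i c) l c⁻¹ with hd
    have hdn : ∀ j, d j * C.σ (d j) = 1 := fun j => by
      rw [hd]
      by_cases hjl : j = l
      · rw [hjl, Function.update_self, map_inv₀, ← mul_inv, hc, inv_one]
      rw [Function.update_of_ne hjl]
      by_cases hji : j = i
      · rw [hji, Function.update_self, hc]
      rw [Function.update_of_ne hji, Pi.one_apply, map_one, one_mul]
    obtain ⟨t, ht, -⟩ := R.tor 1 d one_ne_zero hdn (by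
      rw [map_one, inv_one, one_mul, one_mul, hd, Finset.prod_update_of_mem (Finset.mem_univ _),
        Finset.prod_update_of_mem (by simp [hli.symm])]
      simp [hc0])
    obtain ⟨T, hT⟩ := E.surj t
    obtain ⟨la, Ha⟩ := exists_adm (C := C) (a • bv i : Fin m → F)
    obtain ⟨lb, Hb⟩ := exists_adm (C := C) (b • bv k : Fin m → F)
    obtain ⟨x, hx⟩ := E.surj (R.e (a • bv i) la)
    obtain ⟨y, hy⟩ := E.surj (R.e (b • bv k) lb)
    have ea : (fun j => C.σ 1 * d j * (a • bv i : Fin m → F) j) = (c * a) • bv i := funext fun j => by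
      rw [map_one, one_mul, Pi.smul_apply, Pi.smul_apply, hd]
      by_cases hji : j = i
      · subst hji
        rw [Function.update_of_ne hli.symm, Function.update_self]
        simp [bv, mul_assoc]
      · simp [bv, hji]
    have eb : (fun j => C.σ 1 * d j * (b • bv k : Fin m → F) j) = b • bv k := funext fun j => by
      rw [map_one, one_mul, Pi.smul_apply, hd]
      by_cases hjk : j = k
      · subst hjk
        rw [Function.update_of_ne hlk.symm, Function.update_of_ne hik.symm]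
        simp
      · simp [bv, hjk]
    have Ha' : Adm C ((c * a) • bv i : Fin m → F) la := by
      unfold Adm at *
      rw [hbas] at Ha ⊢
      rw [map_mul]
      linear_combination Ha + (a * C.σ a) * hc
    have e1 : ξ (γ (a • bv i) (b • bv k)) = 1 := by
      rw [hval, hoff i k a b hik, hoff k i b a hik.symm, sub_zero, R.e_zero]
    have e2 := conj_comm E.central (g := T) (a := x) (b := y) (a' := T * x * T⁻¹) (b' := T * y * T⁻¹)
      (by simp) (by simp)
    rw [hγ x y _ _ _ _ Ha Hb hx hy, hγ (T * x * T⁻¹) (T * y * T⁻¹) _ _ _ _ Ha' Hb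
      (by rw [map_mul, map_mul, map_inv, hT, hx, ht Ha, ea, map_one, one_mul, one_mul])
      (by rw [map_mul, map_mul, map_inv, hT, hy, ht Hb, eb, map_one, one_mul, one_mul]),
      ← central_comm E.central e1 T, mul_inv_cancel_right] at e2
    -- additivity in the first vector
    have h4 := hadd (a • bv i) (((c - 1) * a) • bv i) (b • bv k)
    rwa [← add_smul, show a + (c - 1) * a = c * a by ring, ← e2, eq_comm, mul_eq_right] at h4
  -- the diagonal terms
  set δ : Fin m → X := fun i => γ (bv i) (μ • bv i) with hδ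
  have hμ0 : C.σ μ - μ ≠ 0 := sub_ne_zero.2 hμ
  have hdiag : ∀ i, ξ (δ i) = R.e 0 (C.σ μ - μ) := fun i => by
    rw [hδ, hval]
    congr 1
    rw [AutPSU.smul_left C, AutPSU.smul_right C, Phan.h_bv C, if_pos rfl, mul_one, mul_one]
  have hδeq : ∀ i j, δ i = δ j := by
    intro i j
    by_cases hij : i = j
    · rw [hij]
    obtain ⟨g, hg, n, hn, hgn⟩ := hmove i j hij
    obtain ⟨T, hT⟩ := E.surj (inc m g)
    obtain ⟨la, Ha⟩ := exists_adm (C := C) (bv i : Fin m → F)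
    obtain ⟨lb, Hb⟩ := exists_adm (C := C) (μ • bv i : Fin m → F)
    obtain ⟨x, hx⟩ := E.surj (R.e (bv i) la)
    obtain ⟨y, hy⟩ := E.surj (R.e (μ • bv i) lb)
    have Ha' : Adm C (bv j : Fin m → F) la := by
      unfold Adm at *; rw [Phan.h_bv C, if_pos rfl] at Ha ⊢; exact Ha
    have Hb' : Adm C (μ • bv j : Fin m → F) lb := by
      unfold Adm at *; rw [hbas] at Hb ⊢; exact Hb
    have hT1 : ⁅T, δ i⁆ = 1 := by
      refine comm_kill E Fact.out (H := Subgroup.zpowers (inc m g)) ?_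
        (by rw [hT]; exact Subgroup.mem_zpowers _) hn (by rw [hT, ← map_pow, hgn, map_one]; exact one_mem _)
      intro g' hg'
      obtain ⟨k, rfl⟩ := Subgroup.mem_zpowers_iff.1 hg'
      rw [hdiag, ← map_zpow]
      have hc : C.σ (C.σ μ - μ) = -(C.σ μ - μ) := by rw [map_sub, C.invol]; ring
      have := R.conj (g ^ k) (adm_zero (m := m) hc)
      rw [AutPSU.act_zero, mul_inv_eq_iff_eq_mul] at this
      exact this
    have e2 := conj_comm E.central (g := T) (a := x) (b := y) (a' := T * x * T⁻¹) (b' := T * y * T⁻¹)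
      (by simp) (by simp)
    rw [hγ x y _ _ _ _ Ha Hb hx hy, hγ (T * x * T⁻¹) (T * y * T⁻¹) _ _ _ _ Ha' Hb'
      (by rw [map_mul, map_mul, map_inv, hT, hx, R.conj g Ha, hg])
      (by rw [map_mul, map_mul, map_inv, hT, hy, R.conj g Hb, AutPSU.act_smul, hg])] at e2
    rw [show δ i = γ (bv i) (μ • bv i) from rfl, show δ j = γ (bv j) (μ • bv j) from rfl, ← e2]
    rw [commutatorElement_eq_one_iff_mul_comm] at hT1
    rw [show γ (bv i) (μ • bv i) = δ i from rfl, hT1, mul_inv_cancel_right]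
  obtain ⟨i0⟩ : Nonempty (Fin m) := ⟨⟨0, by omega⟩⟩
  set Δ := Subgroup.zpowers (δ i0)
  have hdec : ∀ a : F, ∃ j k : ℕ, a = j + k * μ := by
    have hfp : ∀ a : F, C.σ a = a → ∃ n : ℕ, a = n := fun a ha => by
      have h1 : a ∈ (⊥ : Subfield F) := (Subfield.mem_bot_iff_pow_eq_self (F := F) (p := p)).2
        (by rw [← hqp, ← C.apply_eq, ha])
      obtain ⟨z, hz⟩ := (_root_.mem_bot_iff_intCast p F).1 h1
      refine ⟨(z : ZMod p).val, hz.symm.trans ?_⟩
      rw [← map_natCast (ZMod.castHom dvd_rfl F), ZMod.natCast_zmod_val, map_intCast]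
    intro a
    set k := (C.σ a - a) / (C.σ μ - μ) with hk
    obtain ⟨kn, hkn⟩ := hfp k (by
      rw [hk, map_div₀, map_sub, map_sub, C.invol, C.invol, ← neg_sub (C.σ a), ← neg_sub (C.σ μ),
        neg_div_neg_eq])
    obtain ⟨jn, hjn⟩ := hfp (a - k * μ) (by
      have h1 : k * (C.σ μ - μ) = C.σ a - a := div_mul_cancel₀ _ hμ0
      rw [map_sub, map_mul, hkn, map_natCast, ← hkn]
      linear_combination -h1)
    exact ⟨jn, kn, by rw [← hjn, ← hkn]; ring⟩
  let B : Set (Fin m → F) := {v | ∃ i, v = bv i ∨ v = μ • bv i}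
  have hBB : ∀ v ∈ B, ∀ w ∈ B, γ v w ∈ Δ := by
    have one_smul' : ∀ i, (bv i : Fin m → F) = (1 : F) • bv i := fun i => (one_smul F _).symm
    rintro v ⟨i, hv⟩ w ⟨k, hw⟩
    by_cases hik : i = k
    · subst hik
      rcases hv with rfl | rfl <;> rcases hw with rfl | rfl
      · rw [hself]; exact one_mem _
      · exact Subgroup.mem_zpowers_iff.2 ⟨1, by rw [zpow_one]; exact hδeq i0 i⟩
      · rw [hinv (bv i) (μ • bv i)]
        exact inv_mem (Subgroup.mem_zpowers_iff.2 ⟨1, by rw [zpow_one]; exact hδeq i0 i⟩)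
      · rw [hself]; exact one_mem _
    · rcases hv with rfl | rfl <;> rcases hw with rfl | rfl <;>
        first
        | (rw [hcross i k μ μ hik]; exact one_mem _)
        | (rw [one_smul' i, hcross i k 1 μ hik]; exact one_mem _)
        | (rw [one_smul' k, hcross i k μ 1 hik]; exact one_mem _)
        | (rw [one_smul' i, one_smul' k, hcross i k 1 1 hik]; exact one_mem _)
  have hgen : ∀ w, (∀ v ∈ B, γ v w ∈ Δ) → ∀ v, γ v w ∈ Δ := by
    intro w hw v
    let M : AddSubmonoid (Fin m → F) :=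
      { carrier := {v | γ v w ∈ Δ}
        zero_mem' := by show γ 0 w ∈ Δ; rw [hzero]; exact one_mem _
        add_mem' := fun {a b} ha hb => by show γ (a + b) w ∈ Δ; rw [hadd]; exact mul_mem hb ha }
    suffices v ∈ M from this
    rw [show v = ∑ i, v i • (bv i : Fin m → F) by
      funext j; simp [bv, Finset.sum_apply, Pi.single_apply, Finset.sum_ite_eq]]
    refine sum_mem fun i _ => ?_
    obtain ⟨j, k, e⟩ := hdec (v i)
    rw [e, add_smul, Nat.cast_smul_eq_nsmul, mul_smul, Nat.cast_smul_eq_nsmul]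
    exact add_mem (nsmul_mem (show _ ∈ M from hw _ ⟨i, Or.inl rfl⟩) j)
      (nsmul_mem (show _ ∈ M from hw _ ⟨i, Or.inr rfl⟩) k)
  have hall : ∀ v w, γ v w ∈ Δ := fun v w => hgen w (fun b hb => by
    rw [hinv w b]
    exact inv_mem (hgen b (fun b' hb' => hBB b' hb' b hb) w)) v
  obtain ⟨n, hn⟩ := Subgroup.mem_zpowers_iff.1 (R.derived_le E hZ hγ Δ hall hz)
  have hp1 : δ i0 ^ p = 1 := by
    rw [hδ, ← hnsmul, ← Nat.cast_smul_eq_nsmul F, CharP.cast_eq_zero, zero_smul, hzero]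
  have ho : orderOf (ξ (δ i0)) = p := by
    refine orderOf_eq_prime (by rw [← map_pow, hp1, map_one]) fun e => hμ0 ?_
    rw [hdiag, ← R.e_zero] at e
    exact (R.inj (adm_zero (by rw [map_sub, C.invol]; ring)) (adm_zero (by simp)) e).2
  rw [← hn, map_zpow, ← orderOf_dvd_iff_zpow_eq_one, ho] at ez
  obtain ⟨k, rfl⟩ := ez
  rw [← hn, _root_.zpow_mul, zpow_natCast, hp1, _root_.one_zpow]

/-- One dimension. -/
theorem kills_one (R : Rad C 1) {p N : ℕ} [Fact p.Prime] [CharP F p] (hcard : Fintype.card F = p ^ N)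
    (hF : Fintype.card F = q ^ 2) {g : F} (hg0 : g ≠ 0) (hg : g * C.σ g ≠ 1)
    (hne : ∀ j < N, (C.σ g * (C.σ g / g)) * (C.σ g * (C.σ g / g)) ^ p ^ j ≠ 1)
    (hZ : R.CentreComm p) : Kills p R.Q := by
  intro X _ ξ E z hz ez
  obtain ⟨γ, hγ, hval, hadd, hinv, hcen⟩ := R.exists_gamma E hZ
  have hσg0 : C.σ g ≠ 0 := by simpa using hg0
  set χ := C.σ g * (C.σ g / g) with hχ
  obtain ⟨t, ht, -⟩ := R.tor g (fun _ => C.σ g / g) hg0
    (fun _ => by rw [map_div₀, C.invol]; field_simp)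
    (by rw [Fin.prod_univ_one]; field_simp)
  obtain ⟨T, hT⟩ := E.surj t
  set Nm := g * C.σ g with hNm
  have hNf : C.σ Nm = Nm := by rw [hNm, map_mul, C.invol, mul_comm]
  have htz : ∀ c, C.σ c = -c → t * R.e 0 c * t⁻¹ = R.e 0 (Nm * c) := fun c hc => by
    rw [ht (adm_zero hc)]
    congr 1
    funext i; simp
  choose! Zl hZl using fun c => E.surj (R.e 0 c)
  have hzz : ∀ a b x y, C.σ a = -a → C.σ b = -b → ξ x = R.e 0 a → ξ y = R.e 0 b → Commute x y :=
    fun a b x y ha hb hx hy => hZ X ξ E x y a ha hx (by rw [hy]; exact R.e_mem (adm_zero hb))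
  have hdiv : ∀ c, C.σ c = -c → C.σ (c / (Nm - 1)) = -(c / (Nm - 1)) := fun c hc => by
    rw [map_div₀, map_sub, map_one, hNf, hc, neg_div]
  have hzmul : ∀ a b, C.σ a = -a → C.σ b = -b → R.e 0 a * R.e 0 b = R.e 0 (a + b) := fun a b ha hb => by
    rw [R.mul (adm_zero ha) (adm_zero hb), add_zero, AutPSU.zero_left C, sub_zero]
  let s : F → X := fun c => ⁅T, Zl (c / (Nm - 1))⁆
  have hs : ∀ c, C.σ c = -c → ξ (s c) = R.e 0 c := fun c hc => by
    have h1 := hdiv c hc
    have h2 : C.σ (Nm * (c / (Nm - 1))) = -(Nm * (c / (Nm - 1))) := by rw [map_mul, hNf, h1, mul_neg]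
    show ξ ⁅T, Zl (c / (Nm - 1))⁆ = _
    rw [map_commutatorElement, hT, hZl, commutatorElement_def, htz _ h1, mul_inv_eq_iff_eq_mul,
      hzmul c _ hc h1]
    congr 1
    have := sub_ne_zero.2 hg
    field_simp
    ring
  have hsadd : ∀ a b, C.σ a = -a → C.σ b = -b → s (a + b) = s a * s b := fun a b ha hb => by
    show ⁅T, Zl ((a + b) / (Nm - 1))⁆ = _
    rw [comm_congr E.central (a' := T) (b' := Zl (a / (Nm - 1)) * Zl (b / (Nm - 1))) rfl
      (by rw [map_mul, hZl, hZl, hZl, hzmul _ _ (hdiv a ha) (hdiv b hb), add_div])]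
    exact SylowKill.comm_mul_right (hzz _ b _ _ (hdiv a ha) hb (hZl _) (hs b hb)).eq
  have hsT : ∀ c, C.σ c = -c → T * s c * T⁻¹ = s (Nm * c) := fun c hc => by
    show T * ⁅T, Zl (c / (Nm - 1))⁆ * T⁻¹ = ⁅T, Zl (Nm * c / (Nm - 1))⁆
    refine conj_comm E.central (by simp) ?_
    rw [hT, hZl, hZl, htz _ (hdiv c hc), mul_div_assoc]
  let v1 : F → Fin 1 → F := fun a _ => a
  let δ : F → F → F := fun a b => a * C.σ b - b * C.σ a
  have hh : ∀ a b, h (q := q) (v1 a) (v1 b) = a * C.σ b := fun a b => by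
    simp [h, Cfsg.hermForm, v1, C.apply_eq]
  have hδa : ∀ a b, C.σ (δ a b) = -δ a b := fun a b => by
    simp only [δ, map_sub, map_mul, C.invol]; ring
  have hval' : ∀ a b, ξ (γ (v1 a) (v1 b)) = R.e 0 (δ a b) := fun a b => by rw [hval, hh, hh]
  letI : CommGroup (Subgroup.center X) :=
    { (inferInstance : Group (Subgroup.center X)) with
      mul_comm := fun a b => Subtype.ext (Subgroup.mem_center_iff.1 b.2 a) }
  have hker : ∀ a b, ξ (γ (v1 a) (v1 b) * (s (δ a b))⁻¹) = 1 := fun a b => by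
    rw [map_mul, map_inv, hval', hs _ (hδa a b), mul_inv_cancel]
  let φ : F → F → Subgroup.center X := fun a b => ⟨_, E.central (hker a b)⟩
  have hcg : ∀ a b a' b' x, x = γ (v1 a') (v1 b') ∨ x = s (δ a' b') → Commute (γ (v1 a) (v1 b)) x :=
    fun a b a' b' x hx => hcen x (v1 a) (v1 b) (by
      rcases hx with rfl | rfl
      · rw [hval']; exact R.e_mem (adm_zero (hδa _ _))
      · rw [hs _ (hδa _ _)]; exact R.e_mem (adm_zero (hδa _ _)))
  have h1 : ∀ a a' b, φ (a + a') b = φ a b * φ a' b := fun a a' b => Subtype.ext (by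
    show γ (v1 (a + a')) (v1 b) * (s (δ (a + a') b))⁻¹ = _ * _
    have e : δ (a + a') b = δ a b + δ a' b := by simp only [δ, map_add]; ring
    rw [e, hsadd _ _ (hδa _ _) (hδa _ _), show v1 (a + a') = v1 a + v1 a' from rfl, hadd,
      (hcg a' b a b _ (Or.inl rfl)).eq]
    have hc1 : Commute (s (δ a b))⁻¹ (γ (v1 a') (v1 b) * (s (δ a' b))⁻¹) :=
      (Subgroup.mem_center_iff.1 (E.central (hker a' b)) _)
    show γ (v1 a) (v1 b) * γ (v1 a') (v1 b) * (s (δ a b) * s (δ a' b))⁻¹ =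
      γ (v1 a) (v1 b) * (s (δ a b))⁻¹ * (γ (v1 a') (v1 b) * (s (δ a' b))⁻¹)
    rw [mul_assoc _ (s (δ a b))⁻¹, hc1.eq]
    group)
  have h2 : ∀ a b, φ b a = (φ a b)⁻¹ := fun a b => Subtype.ext (by
    show γ (v1 b) (v1 a) * (s (δ b a))⁻¹ = (γ (v1 a) (v1 b) * (s (δ a b))⁻¹)⁻¹
    have hs0 : s 0 = 1 := by
      have := hsadd 0 0 (by simp) (by simp)
      rwa [add_zero, eq_comm, mul_eq_left] at this
    have e : s (δ b a) = (s (δ a b))⁻¹ := by
      refine eq_inv_of_mul_eq_one_left ?_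
      rw [← hsadd _ _ (hδa _ _) (hδa _ _), show δ b a + δ a b = 0 by simp only [δ]; ring, hs0]
    rw [hinv (v1 a) (v1 b), e, inv_inv, _root_.mul_inv_rev, inv_inv,
      ((hcg a b a b _ (Or.inr rfl)).inv_left).eq])
  have hinvar : ∀ a b, φ (χ * a) (χ * b) = φ a b := fun a b => Subtype.ext (by
    show γ (v1 (χ * a)) (v1 (χ * b)) * (s (δ (χ * a) (χ * b)))⁻¹ = γ (v1 a) (v1 b) * (s (δ a b))⁻¹
    have eN : χ * C.σ χ = Nm := by
      rw [hχ, map_mul, map_div₀, C.invol, hNm]; field_simp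
    have eδ : δ (χ * a) (χ * b) = Nm * δ a b := by
      simp only [δ, map_mul]; linear_combination (a * C.σ b - b * C.σ a) * eN
    have ev : ∀ a, (fun i => C.σ g * (fun _ => C.σ g / g) i * v1 a i) = v1 (χ * a) := fun a => rfl
    obtain ⟨la, Ha⟩ := exists_adm (C := C) (v1 a)
    obtain ⟨lb, Hb⟩ := exists_adm (C := C) (v1 b)
    obtain ⟨x, hx⟩ := E.surj (R.e (v1 a) la)
    obtain ⟨y, hy⟩ := E.surj (R.e (v1 b) lb)
    have Hn : ∀ a l, Adm C (v1 a) l → Adm C (v1 (χ * a)) (g * C.σ g * l) := fun a l H => by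
      unfold Adm at *
      rw [hh] at H ⊢
      simp only [map_mul, C.invol]
      linear_combination Nm * H + a * C.σ a * eN
    have e2 := conj_comm E.central (g := T) (a := x) (b := y) (a' := T * x * T⁻¹) (b' := T * y * T⁻¹)
      (by simp) (by simp)
    rw [hγ x y _ _ _ _ Ha Hb hx hy, hγ (T * x * T⁻¹) (T * y * T⁻¹) _ _ _ _ (Hn a la Ha) (Hn b lb Hb)
      (by rw [map_mul, map_mul, map_inv, hT, hx, ht Ha, ev])
      (by rw [map_mul, map_mul, map_inv, hT, hy, ht Hb, ev])] at e2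
    rw [eδ, ← hsT _ (hδa a b), ← e2, show T * γ (v1 a) (v1 b) * T⁻¹ * (T * s (δ a b) * T⁻¹)⁻¹ =
      T * (γ (v1 a) (v1 b) * (s (δ a b))⁻¹) * T⁻¹ by group, ← central_comm E.central (hker a b) T,
      mul_inv_cancel_right])
  have hφ : ∀ a b, φ a b = 1 := SylowKill.vanish hcard φ (fun b b' a => h1 b b' a)
    (fun b a a' => by rw [h2 (a + a') b, h1, mul_inv, ← h2, ← h2]) χ χ hinvar hne
    (mul_ne_zero hσg0 (div_ne_zero hσg0 hg0))
  have hγs : ∀ a b, γ (v1 a) (v1 b) = s (δ a b) := fun a b => by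
    have := congrArg Subtype.val (hφ a b)
    exact mul_inv_eq_one.1 this
  let S : Subgroup X :=
    { carrier := {x | ∃ c, C.σ c = -c ∧ x = s c}
      one_mem' := ⟨0, by simp, by
        have := hsadd 0 0 (by simp) (by simp)
        rw [add_zero] at this
        exact (mul_eq_left.1 this.symm).symm⟩
      mul_mem' := by
        rintro _ _ ⟨a, ha, rfl⟩ ⟨b, hb, rfl⟩
        exact ⟨a + b, by rw [map_add, ha, hb]; ring, (hsadd a b ha hb).symm⟩
      inv_mem' := by
        rintro _ ⟨a, ha, rfl⟩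
        refine ⟨-a, by rw [map_neg, ha], inv_eq_of_mul_eq_one_right ?_⟩
        rw [← hsadd a (-a) ha (by rw [map_neg, ha]), add_neg_cancel]
        have := hsadd 0 0 (by simp) (by simp)
        rw [add_zero] at this
        exact mul_eq_left.1 this.symm }
  obtain ⟨c, hc, rfl⟩ := R.derived_le E hZ hγ S (fun v v' => ⟨δ (v 0) (v' 0), hδa _ _, by
    rw [← hγs]
    exact congrArg₂ γ (funext fun i => by rw [Fin.fin_one_eq_zero i]) (funext fun i => by rw [Fin.fin_one_eq_zero i])⟩) hz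
  rw [hs c hc, ← R.e_zero] at ez
  obtain ⟨-, rfl⟩ := R.inj (adm_zero hc) (adm_zero (by simp)) ez
  have := hsadd 0 0 (by simp) (by simp)
  rw [add_zero] at this
  exact mul_eq_left.1 this.symm

end Rad

end Cfsg.Agent.PSUMult
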