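import Cfsg.Agent.Lib.PSUMult.Radical
import Cfsg.Agent.Lib.Small.UFourTwo.Iso
import Cfsg.Agent.S2090
import Cfsg.Agent.S2091
import Cfsg.Agent.S2092

/-!
# The base cases `SU₃`, `SU₅(2)`, `SU₅(3)`, `SU₇(2)`
-/

set_option autoImplicit false
set_option linter.unusedSectionVars false
set_option linter.style.haveILetI false
set_option linter.style.show false

namespace Cfsg.Agent.PSUMult

open scoped commutatorElement
open Matrix
open Cfsg.Agent.AutPSU (Conj h act act_mul act_one ext_act)
open Cfsg.Agent.Phan (bv emb emb_range emb_fix)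

universe u v

/-- A perfect central extension with the multiplier of the quotient known. -/
theorem kills_top_of_quot {G Q : Type u} [Group G] [Group Q] [Finite G] (hperf : commutator G = ⊤)
    (π : G →* Q) (hπs : Function.Surjective π) (hπc : π.ker ≤ Subgroup.center G) {A : Type v} [CommGroup A]
    (hA : Cfsg.HasSchurMultiplier Q A) {r : ℕ} (hr : r.Prime) (h : ¬ r * Nat.card π.ker ∣ Nat.card A) :
    Kills r (⊤ : Subgroup G) := by
  intro X _ ξ E z hz ez
  haveI : Finite Q := Finite.of_surjective π hπs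
  haveI : Finite (commutator X) := Schur.finite_commutator ξ E.central
  let η : commutator X →* G := ξ.comp (commutator X).subtype
  have hηs : Function.Surjective η := fun g => by
    have hg : g ∈ (commutator X).map ξ := by
      rw [_root_.map_commutator_eq, MonoidHom.range_eq_top.2 E.surj, ← commutator_def, hperf]
      trivial
    obtain ⟨x, hx, rfl⟩ := hg
    exact ⟨⟨x, hx⟩, rfl⟩
  have hperf' : commutator (commutator X) = ⊤ := by
    apply Subgroup.map_injective (commutator X).subtype_injective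
    rw [_root_.map_commutator_eq, ← MonoidHom.range_eq_map, Subgroup.range_subtype]
    refine le_antisymm (Subgroup.commutator_le_self _) ?_
    rw [commutator_def, Subgroup.commutator_le]
    intro x _ y _
    obtain ⟨a, ha⟩ := hηs (ξ x)
    obtain ⟨b, hb⟩ := hηs (ξ y)
    rw [comm_congr E.central (show ξ x = ξ (a : X) from ha.symm) (show ξ y = ξ (b : X) from hb.symm)]
    exact Subgroup.commutator_mem_commutator a.2 b.2
  have hcen : (π.comp η).ker ≤ Subgroup.center (commutator X) := fun a ha => by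
    refine Subgroup.mem_center_iff.2 fun b => Subtype.ext ?_
    have hb : ξ (b : X) ^ 1 ∈ ⁅(⊤ : Subgroup G), (⊤ : Subgroup G)⁆ := by rw [← commutator_def, hperf]; trivial
    exact commutatorElement_eq_one_iff_mul_comm.1 (comm_kill E hr (H := (⊤ : Subgroup G))
      (fun g _ => Subgroup.mem_center_iff.1 (hπc (show π (η a) = 1 from ha)) g) trivial
      (fun e => hr.one_lt.ne' (Nat.dvd_one.1 e)) hb)
  have hcard : Nat.card (π.comp η).ker ∣ Nat.card A := by
    obtain ⟨m⟩ := Schur.multiplierEquiv hA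
    rw [← Nat.card_congr m.toEquiv]
    have h1 := Schur.card_dvd_card_multiplier (π.comp η) (hπs.comp hηs) hcen
    rwa [hperf', inf_top_eq] at h1
  have hzc : z ∈ commutator X := by
    rw [commutator_def]; exact Subgroup.commutator_mono le_top le_top hz
  obtain ⟨k, hk⟩ := E.rker z ez
  by_contra hne
  have hzk : (⟨z, hzc⟩ : commutator X) ∈ η.ker := ez
  have hne' : (⟨⟨z, hzc⟩, hzk⟩ : η.ker) ≠ 1 := fun e => hne (congrArg (fun w : η.ker => ((w : commutator X) : X)) e :)
  have hro : r ∣ orderOf (⟨⟨z, hzc⟩, hzk⟩ : η.ker) := by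
    obtain ⟨j, -, hj⟩ := (Nat.dvd_prime_pow hr).1 (orderOf_dvd_of_pow_eq_one (n := r ^ k)
      (x := (⟨⟨z, hzc⟩, hzk⟩ : η.ker)) (Subtype.ext (Subtype.ext hk)))
    rw [hj]
    exact dvd_pow_self r (fun e => hne' (orderOf_eq_one_iff.1 (by rw [hj, e, pow_zero])))
  refine h ((Nat.mul_dvd_mul_right (hro.trans (orderOf_dvd_natCard _)) _).trans ?_)
  let κ : (π.comp η).ker →* π.ker := (η.comp (π.comp η).ker.subtype).codRestrict _ fun a => a.2
  have hκs : Function.Surjective κ := fun b => by
    obtain ⟨a, ha⟩ := hηs b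
    exact ⟨⟨a, show π (η a) = 1 by rw [ha]; exact b.2⟩, Subtype.ext ha⟩
  have e1 : Nat.card κ.ker = Nat.card η.ker := Nat.card_congr
    { toFun := fun a => ⟨a.1.1, (congrArg Subtype.val a.2 :)⟩
      invFun := fun a => ⟨⟨a.1, show π (η a.1) = 1 by rw [show η a.1 = 1 from a.2, map_one]⟩, Subtype.ext a.2⟩
      left_inv := fun _ => rfl
      right_inv := fun _ => rfl }
  rw [← e1, ← Nat.card_congr (QuotientGroup.quotientKerEquivOfSurjective κ hκs).toEquiv, mul_comm,
    ← Subgroup.card_eq_card_quotient_mul_card_subgroup]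
  exact hcard

variable {F : Type u} [Field F] [Fintype F] {q : ℕ}

/-- The stabiliser of a non-isotropic line, over a perfect block. -/
theorem exists_kills_block (hF : Fintype.card F = q ^ 2) {m : ℕ} (hm : 0 < m) {r : ℕ} (hr : r.Prime)
    (hperf : commutator ↥(Cfsg.SU m F q) = ⊤) (hkill : Kills r (⊤ : Subgroup ↥(Cfsg.SU m F q)))
    {M : ℕ} (hM : Nat.card ↥(Cfsg.SU (m + 1) F q) = Nat.card ↥(Cfsg.SU m F q) * (q + 1) * M)
    (hrM : ¬ r ∣ M) : ∃ U : Subgroup ↥(Cfsg.SU (m + 1) F q), ¬ r ∣ U.index ∧ Kills r U := by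
  classical
  obtain ⟨C⟩ := AutPSU.exists_conj hF
  obtain ⟨σ, hσ, hne, hinv, hfix, hq2⟩ := HermStd.exists_sigma hF
  have ho : 0 + m ≤ m + 1 := by omega
  set L : Subgroup ↥(Cfsg.SU (m + 1) F q) := (emb (F := F) (q := q) 0 ho).range with hL
  set el : Fin (m + 1) := Fin.last m with hel
  set f0 : Fin (m + 1) := 0
  have hfl : f0 ≠ el := fun e => by
    have := congrArg Fin.val e
    simp [f0, el] at this
    omega
  have hLmem : ∀ s, s ∈ L ↔ act s (bv el) = bv el := fun s => by
    constructor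
    · rintro ⟨t, rfl⟩; exact emb_fix 0 ho t (Or.inr (by simp [el]))
    · intro e
      obtain ⟨t, ht⟩ := emb_range (F := F) (q := q) 0 ho C s fun i hi => by
        obtain rfl : i = el := Fin.ext (by simp [el]; omega)
        exact e
      exact ⟨t, ht⟩
  obtain ⟨u, hu⟩ := IsCyclic.exists_generator (α := HermSU.normOne σ)
  have hord : orderOf u = q + 1 := by
    rw [orderOf_eq_card_of_forall_mem_zpowers hu, HermSU.card_normOne hne hinv hfix]
  have hN : ∀ x : HermSU.normOne σ, ((x : Fˣ) : F) * C.σ ((x : Fˣ) : F) = 1 := fun x => by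
    rw [C.apply_eq, ← hσ]; exact x.2
  set w : F := ((u : Fˣ) : F) with hw
  have hw0 : w ≠ 0 := Units.ne_zero _
  set d : Fin (m + 1) → F := Function.update (Function.update 1 f0 w⁻¹) el w with hd
  obtain ⟨γ, hγ⟩ := exists_diag C d
    (fun i => by
      rw [hd]
      by_cases h1 : i = el
      · rw [h1, Function.update_self]; exact hN u
      rw [Function.update_of_ne h1]
      by_cases h2 : i = f0
      · rw [h2, Function.update_self, map_inv₀, ← mul_inv, hN u, inv_one]
      rw [Function.update_of_ne h2, Pi.one_apply, map_one, one_mul])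
    (by
      rw [hd, Finset.prod_update_of_mem (Finset.mem_univ _), Finset.prod_update_of_mem (by simp [hfl])]
      simp [hw0])
  have hdel : d el = w := by rw [hd, Function.update_self]
  have hdpow : ∀ k : ℕ, ∀ v i, act (γ ^ k) v i = d i ^ k * v i := by
    intro k v i
    induction k with
    | zero => simp [act_one]
    | succ k ih => rw [pow_succ', act_mul, hγ, ih, pow_succ]; ring
  have hγ2 : ∀ k : ℕ, act (γ ^ k) (bv el) = w ^ k • (bv el : Fin (m + 1) → F) := fun k => funext fun i => by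
    rw [hdpow]
    by_cases h1 : i = el
    · subst h1; simp [bv, hdel]
    · simp [bv, h1]
  have hγord : γ ^ (q + 1) = 1 := ext_act fun v => funext fun i => by
    rw [act_one, hdpow]
    have hw1 : w ^ (q + 1) = 1 := by
      rw [hw, ← Units.val_pow_eq_pow_val, ← Subgroup.coe_pow, ← hord, pow_orderOf_eq_one]; simp
    rw [hd]
    simp only [Function.update_apply, Pi.one_apply]
    split_ifs <;> simp [hw1, inv_pow]
  have hinv' : γ⁻¹ = γ ^ q := inv_eq_of_mul_eq_one_right (by rw [← pow_succ', hγord])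
  have hconj : ∀ k : ℕ, ∀ s ∈ L, γ ^ k * s * (γ ^ k)⁻¹ ∈ L := fun k s hs => by
    rw [hLmem] at hs ⊢
    have h2 : act (γ ^ k)⁻¹ (bv el) = (w ^ k)⁻¹ • (bv el : Fin (m + 1) → F) := by
      refine AutPSU.act_inj (γ ^ k) ?_
      rw [AutPSU.act_act_inv, AutPSU.act_smul, hγ2, smul_smul, inv_mul_cancel₀ (pow_ne_zero _ hw0), one_smul]
    rw [act_mul, act_mul, h2, AutPSU.act_smul, hs, AutPSU.act_smul, hγ2, smul_smul,
      inv_mul_cancel₀ (pow_ne_zero _ hw0), one_smul]
  have hnorm : Subgroup.zpowers γ ≤ Subgroup.normalizer (L : Set ↥(Cfsg.SU (m + 1) F q)) := by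
    rw [Subgroup.zpowers_le]
    refine Subgroup.mem_normalizer_iff.2 fun s => ⟨fun hs => by simpa using hconj 1 s hs, fun hs => ?_⟩
    have := hconj q _ hs
    rw [← hinv', inv_inv] at this
    simpa [mul_assoc] using this
  set H := L ⊔ Subgroup.zpowers γ with hH
  have hdec : ∀ x ∈ H, ∃ l ∈ L, ∃ k : ℕ, k < q + 1 ∧ x = l * γ ^ k := by
    intro x hx
    rw [hH, ← SetLike.mem_coe, Subgroup.coe_mul_of_right_le_normalizer_left _ _ hnorm] at hx
    obtain ⟨l, hl, y, hy, rfl⟩ := hx
    obtain ⟨k, rfl⟩ := (mem_powers_iff_mem_zpowers.2 hy : y ∈ Submonoid.powers γ)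
    exact ⟨l, hl, k % (q + 1), Nat.mod_lt _ (by omega), by
      show l * γ ^ k = _
      rw [pow_eq_pow_mod k hγord]⟩
  have hcard : Nat.card H = Nat.card L * (q + 1) := by
    rw [show q + 1 = Nat.card (Fin (q + 1)) by simp, ← Nat.card_prod]
    symm
    refine Nat.card_congr (Equiv.ofBijective (fun a => ⟨a.1.1 * γ ^ (a.2 : ℕ),
      mul_mem (Subgroup.mem_sup_left a.1.2) (Subgroup.mem_sup_right (pow_mem (Subgroup.mem_zpowers γ) _))⟩) ⟨?_, ?_⟩)
    · rintro ⟨l, k⟩ ⟨l', k'⟩ e
      have e' : (l : ↥(Cfsg.SU (m + 1) F q)) * γ ^ (k : ℕ) = l' * γ ^ (k' : ℕ) := congrArg Subtype.val e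
      have e2 := congrArg (fun s => act s (bv el : Fin (m + 1) → F) el) e'
      simp only [act_mul, hγ2, AutPSU.act_smul, (hLmem _).1 l.2, (hLmem _).1 l'.2] at e2
      simp only [Pi.smul_apply, smul_eq_mul, bv, Pi.single_eq_same, mul_one] at e2
      have hk : (k : ℕ) = k' := by
        have h3 : u ^ (k : ℕ) = u ^ (k' : ℕ) := Subtype.ext (Units.ext (by simpa using e2))
        exact pow_injOn_Iio_orderOf (by simp [hord]; omega) (by simp [hord]; omega) h3
      obtain rfl : k = k' := Fin.ext hk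
      exact Prod.ext (Subtype.ext (mul_right_cancel e')) rfl
    · rintro ⟨x, hx⟩
      obtain ⟨l, hl, k, hk, rfl⟩ := hdec x hx
      exact ⟨(⟨l, hl⟩, ⟨k, hk⟩), rfl⟩
  refine ⟨H, ?_, ?_⟩
  · have hLc : Nat.card L = Nat.card ↥(Cfsg.SU m F q) :=
      (Nat.card_congr (MonoidHom.ofInjective (Phan.emb_injective (F := F) (q := q) 0 ho)).toEquiv).symm
    have hi := H.card_mul_index
    rw [hcard, hLc, hM] at hi
    rwa [Nat.eq_of_mul_eq_mul_left (Nat.mul_pos Nat.card_pos (Nat.succ_pos _)) hi]
  · refine kills_ext hr (L := L) (e := 1) ?_ (c := γ) ?_ ?_ ?_ ?_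
    · exact sup_le Subgroup.le_normalizer hnorm
    · intro x hx
      obtain ⟨l, hl, k, -, rfl⟩ := hdec x hx
      exact ⟨l, hl, k, by rw [zpow_natCast]⟩
    · exact fun h => hr.one_lt.ne' (Nat.dvd_one.1 h)
    · rintro _ ⟨t, rfl⟩
      rw [pow_one, hL, MonoidHom.range_eq_map, ← Subgroup.map_commutator, ← commutator_def, hperf]
      exact Subgroup.mem_map_of_mem _ trivial
    · rw [hL, MonoidHom.range_eq_map]
      exact hkill.map _ (Phan.emb_injective 0 ho)

theorem kills_su_quot (hF : Fintype.card F = q ^ 2) {n : ℕ} (hn : 3 ≤ n) (hq : n = 3 → 3 ≤ q) {d : ℕ}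
    (hd : Nat.gcd n (q + 1) = d) {A : Type v} [CommGroup A]
    (hA : Cfsg.HasSchurMultiplier (Cfsg.PSU n F q) A) {r : ℕ} (hr : r.Prime) (h : ¬ r * d ∣ Nat.card A) :
    Kills r (⊤ : Subgroup ↥(Cfsg.SU n F q)) := by
  classical
  obtain ⟨σ, hσ, hne, hinv, hfix, -⟩ := HermStd.exists_sigma hF
  refine kills_top_of_quot (perfect_su hF hn hq) (QuotientGroup.mk' (Subgroup.center ↥(Cfsg.SU n F q)))
    (QuotientGroup.mk'_surjective _) (by rw [QuotientGroup.ker_mk']) hA hr ?_
  rw [QuotientGroup.ker_mk', HermSU.card_center_SU hne hinv hσ (by omega) hfix, hd]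
  exact h

theorem not_sq_dvd_aux {r a b s : ℕ} (hr : r.Prime) (h2 : r ≠ 2) (h3 : r ≠ 3) (h : r ^ 2 ∣ 2 ^ a * 3 ^ b * s) :
    r ^ 2 ∣ s :=
  (((Nat.coprime_primes hr Nat.prime_two).2 h2).pow 2 a |>.mul_right
    (((Nat.coprime_primes hr Nat.prime_three).2 h3).pow 2 b)).dvd_of_dvd_mul_left h

theorem mult_five_two (hF : Fintype.card F = 2 ^ 2) :
    Cfsg.HasCyclicSchurMultiplier ↥(Cfsg.SU 5 F 2) 1 := by
  classical
  refine mult_one_of_kills (perfect_su hF (by norm_num) (by norm_num)) fun r hr => ?_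
  have h5 : Nat.card ↥(Cfsg.SU 5 F 2) = 13685760 :=
    card_su_mul_eq hF (by norm_num) (by norm_num [Finset.prod_range_succ, Nat.even_iff])
  by_cases h2 : r = 2
  · subst h2; exact exists_kills_five_two_p hF
  by_cases h3 : r = 3
  · subst h3
    have h4 : Nat.card ↥(Cfsg.SU 4 F 2) = 25920 :=
      card_su_mul_eq hF (by norm_num) (by norm_num [Finset.prod_range_succ, Nat.even_iff])
    haveI : Fact (Nat.Prime 3) := ⟨Nat.prime_three⟩
    let K : Type u := ULift.{u} (ZMod 3)
    haveI : Field K := Equiv.ulift.field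
    haveI : Fintype K := inferInstanceAs (Fintype (ULift.{u} (ZMod 3)))
    have hK : Fintype.card K = 3 := by
      rw [← Nat.card_eq_fintype_card]
      show Nat.card (ULift.{u} (ZMod 3)) = 3
      rw [Nat.card_ulift, Nat.card_zmod]
    obtain ⟨e⟩ := UFourTwo.psu_equiv_psp (F := F) (K := K) (by rw [hF]; norm_num) hK
    haveI : Finite (Cfsg.PSp 2 K) := Finite.of_equiv _ e.toEquiv
    have hA : Cfsg.HasSchurMultiplier (Cfsg.PSU 4 F 2) (Multiplicative (ZMod 2)) := by
      have h := S2092.result hK 2 le_rfl (fun _ => le_rfl) (by norm_num)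
      obtain ⟨m⟩ := Schur.multiplierEquiv h
      obtain ⟨c⟩ := Schur.multiplierEquiv_of_mulEquiv e
      exact Schur.hasSchurMultiplier_iff.2 ⟨c.trans m⟩
    exact exists_kills_block hF (m := 4) (by norm_num) Nat.prime_three (perfect_su hF (by norm_num) (by norm_num))
      (kills_su_quot hF (by norm_num) (by norm_num) (d := 1) (by norm_num) hA Nat.prime_three (by simp))
      (M := 176) (by rw [h4, h5]) (by decide)
  refine exists_kills_small hr fun h => ?_
  rw [h5, show (13685760 : ℕ) = 2 ^ 10 * 3 ^ 5 * 55 by norm_num] at h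
  have h' := not_sq_dvd_aux hr h2 h3 h
  have : r ∣ 5 * 11 := (dvd_pow_self r two_ne_zero).trans h'
  rw [hr.dvd_mul, Nat.prime_dvd_prime_iff_eq hr (by norm_num), Nat.prime_dvd_prime_iff_eq hr (by norm_num)] at this
  rcases this with rfl | rfl <;> norm_num at h'

theorem mult_seven_two (hF : Fintype.card F = 2 ^ 2) :
    Cfsg.HasCyclicSchurMultiplier ↥(Cfsg.SU 7 F 2) 1 := by
  classical
  refine mult_one_of_kills (perfect_su hF (by norm_num) (by norm_num)) fun r hr => ?_
  have h7 : Nat.card ↥(Cfsg.SU 7 F 2) = 2 ^ 21 * 3 ^ 8 * 16555 :=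
    card_su_mul_eq hF (by norm_num) (by norm_num [Finset.prod_range_succ, Nat.even_iff])
  by_cases h2 : r = 2
  · subst h2; exact exists_kills_seven_two_p hF
  by_cases h3 : r = 3
  · subst h3
    have h6 : Nat.card ↥(Cfsg.SU 6 F 2) = 27590492160 :=
      card_su_mul_eq hF (by norm_num) (by norm_num [Finset.prod_range_succ, Nat.even_iff])
    exact exists_kills_block hF (m := 6) (by norm_num) Nat.prime_three (perfect_su hF (by norm_num) (by norm_num))
      (kills_su_quot hF (by norm_num) (by norm_num) (d := 3) (by norm_num)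
        (S2091.result (by rw [hF]; norm_num)) Nat.prime_three (by simp [Nat.card_prod]))
      (M := 2752) (by rw [h6, h7]; norm_num) (by decide)
  refine exists_kills_small hr fun h => ?_
  rw [h7] at h
  have h' := not_sq_dvd_aux hr h2 h3 h
  have : r ∣ 5 * 7 * 11 * 43 := (dvd_pow_self r two_ne_zero).trans h'
  rw [hr.dvd_mul, hr.dvd_mul, hr.dvd_mul, Nat.prime_dvd_prime_iff_eq hr (by norm_num),
    Nat.prime_dvd_prime_iff_eq hr (by norm_num), Nat.prime_dvd_prime_iff_eq hr (by norm_num),
    Nat.prime_dvd_prime_iff_eq hr (by norm_num)] at this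
  rcases this with ((rfl | rfl) | rfl) | rfl <;> norm_num at h'

theorem mult_five_three (hF : Fintype.card F = 3 ^ 2) :
    Cfsg.HasCyclicSchurMultiplier ↥(Cfsg.SU 5 F 3) 1 := by
  classical
  refine mult_one_of_kills (perfect_su hF (by norm_num) (by norm_num)) fun r hr => ?_
  have h5 : Nat.card ↥(Cfsg.SU 5 F 3) = 2 ^ 11 * 3 ^ 10 * 2135 :=
    card_su_mul_eq hF (by norm_num) (by norm_num [Finset.prod_range_succ, Nat.even_iff])
  by_cases h3 : r = 3
  · subst h3; exact exists_kills_five_three_p hF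
  by_cases h2 : r = 2
  · subst h2
    have h4 : Nat.card ↥(Cfsg.SU 4 F 3) = 13063680 :=
      card_su_mul_eq hF (by norm_num) (by norm_num [Finset.prod_range_succ, Nat.even_iff])
    exact exists_kills_block hF (m := 4) (by norm_num) Nat.prime_two (perfect_su hF (by norm_num) (by norm_num))
      (kills_su_quot hF (by norm_num) (by norm_num) (d := 4) (by norm_num)
        (S2090.result (by rw [hF]; norm_num)) Nat.prime_two (by simp [Nat.card_prod]))
      (M := 4941) (by rw [h4, h5]; norm_num) (by decide)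
  refine exists_kills_small hr fun h => ?_
  rw [h5] at h
  have h' := not_sq_dvd_aux hr h2 h3 h
  have : r ∣ 5 * 7 * 61 := (dvd_pow_self r two_ne_zero).trans h'
  rw [hr.dvd_mul, hr.dvd_mul, Nat.prime_dvd_prime_iff_eq hr (by norm_num),
    Nat.prime_dvd_prime_iff_eq hr (by norm_num), Nat.prime_dvd_prime_iff_eq hr (by norm_num)] at this
  rcases this with (rfl | rfl) | rfl <;> norm_num at h'

/-- The multiplier of `SU₃` is trivial. -/
theorem mult_three (hF : Fintype.card F = q ^ 2) (hq : 3 ≤ q) :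
    Cfsg.HasCyclicSchurMultiplier ↥(Cfsg.SU 3 F q) 1 := by
  classical
  refine mult_one_of_kills (perfect_su hF le_rfl (fun _ => hq)) fun r hr => ?_
  haveI := Fact.mk hr
  set p := ringChar F
  haveI : CharP F p := ringChar.charP F
  obtain ⟨N, hp, hN⟩ := FiniteField.card F p
  haveI := Fact.mk hp
  by_cases hrp : r = p
  · subst hrp; exact exists_kills_three_p hF hq
  have hrq : ¬ r ∣ q := fun h => hrp ((Nat.prime_dvd_prime_iff_eq hr hp).1
    (hr.dvd_of_dvd_pow (n := N) (by rw [← hN, hF]; exact h.trans (dvd_pow_self q two_ne_zero))))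
  by_cases hc : r ∣ q * q - q + 1
  · by_cases h5 : 5 ≤ r
    · exact exists_kills_singer hF h5 hrq hc
    have hr2 : r ≠ 2 := by
      rintro rfl
      have : Even (q * q - q) := by
        rw [← Nat.mul_sub_one]
        exact Nat.even_mul_pred_self q
      rw [Nat.even_iff] at this
      omega
    have hr3 : r = 3 := by
      have := hr.two_le
      rcases (show r = 3 ∨ r = 4 by omega) with h | h
      · exact h
      · rw [h] at hr; norm_num at hr
    subst hr3
    refine exists_kills_three hF hq ?_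
    have h3 : 3 ∣ (q + 1) * (q * q - q + 1) := hc.mul_left _
    obtain ⟨k, hk⟩ := hc
    have hle := Nat.le_mul_self q
    rcases (show q % 3 = 0 ∨ q % 3 = 1 ∨ q % 3 = 2 by omega) with h | h | h
    · exact absurd (Nat.dvd_of_mod_eq_zero h) hrq
    · exfalso
      have : (q * q - q + 1) % 3 = 1 := by
        have : q * q % 3 = 1 := by rw [Nat.mul_mod, h]
        omega
      omega
    · omega
  · exact exists_kills_line hF hrp hrq hc

end Cfsg.Agent.PSUMult
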